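import Mathlib.RingTheory.Flat.FaithfullyFlat.Basic
import Mathlib.RingTheory.Flat.FaithfullyFlat.Algebra
import Mathlib.RingTheory.IsTensorProduct
import Mathlib.RingTheory.Localization.BaseChange
import Mathlib.RingTheory.LocalProperties.Submodule

/-!
# Algebra for descent of sections of modules
-/

set_option autoImplicit false

universe u

open TensorProduct

namespace Groth.Agent.Desc44.QCohDescent

/-- A base change property descends along a faithfully flat extension of the target ring. -/
theorem isBaseChange_descend {A A' B' M M' F : Type*} [CommRing A] [CommRing A'] [CommRing B'] [Algebra A A']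
    [Algebra A' B'] [Algebra A B'] [IsScalarTower A A' B'] [Module.FaithfullyFlat A' B'] [AddCommGroup M]
    [Module A M] [AddCommGroup M'] [Module A M'] [Module A' M'] [IsScalarTower A A' M'] [AddCommGroup F]
    [Module A F] [Module A' F] [Module B' F] [IsScalarTower A B' F] [IsScalarTower A' B' F] [IsScalarTower A A' F]
    (s : M →ₗ[A] M') (v : M' →ₗ[A'] F) (hv : IsBaseChange B' v)
    (hc : IsBaseChange B' ((v.restrictScalars A) ∘ₗ s)) : IsBaseChange A' s := by
  have hp : IsBaseChange A' (TensorProduct.mk A A' M 1) := TensorProduct.isBaseChange A M A'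
  let Φ : A' ⊗[A] M →ₗ[A'] M' := LinearMap.liftBaseChange A' s
  have hΦ : ∀ m, Φ (1 ⊗ₜ m) = s m := fun m => by simp [Φ]
  have hψ : IsBaseChange B' (v ∘ₗ Φ) := by
    refine IsBaseChange.of_comp hp ?_
    convert hc using 1
    exact LinearMap.ext fun m => congrArg v (hΦ m)
  have hb : Function.Bijective (Φ.baseChange B') := by
    have : (Φ.baseChange B' : B' ⊗[A'] (A' ⊗[A] M) → B' ⊗[A'] M') = hv.equiv.symm ∘ hψ.equiv := by
      funext z
      refine hv.equiv.injective ?_
      simp only [Function.comp_apply, LinearEquiv.apply_symm_apply]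
      induction z using TensorProduct.induction_on with
      | zero => simp
      | tmul b p => simp [IsBaseChange.equiv_tmul]
      | add p q hp hq => simp [hp, hq]
    rw [this]
    exact hv.equiv.symm.bijective.comp hψ.equiv.bijective
  have hb' : Function.Bijective Φ :=
    (Module.FaithfullyFlat.lTensor_bijective_iff_bijective A' B' Φ).1 hb
  exact IsBaseChange.of_equiv (LinearEquiv.ofBijective Φ hb') fun m => hΦ m

/-- An element of a tensor product that is zero in every localisation at a prime is zero. -/
theorem eq_zero_of_localizations {A C M : Type*} [CommRing A] [CommRing C] [Algebra A C] [AddCommGroup M]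
    [Module A M] (z : C ⊗[A] M)
    (h : ∀ p : PrimeSpectrum C, ∃ (L : Type _) (_ : CommRing L) (_ : Algebra C L)
      (_ : IsLocalization.AtPrime L p.asIdeal) (_ : Algebra A L) (_ : IsScalarTower A C L),
        (IsScalarTower.toAlgHom A C L).toLinearMap.rTensor M z = 0) : z = 0 := by
  by_contra hz
  have hne : Module.annihilator C (C ∙ z) ≠ ⊤ := by
    intro ht
    have h1 : (1 : C) ∈ Module.annihilator C (C ∙ z) := ht.symm ▸ Submodule.mem_top
    rw [Submodule.mem_annihilator_span_singleton, one_smul] at h1
    exact hz h1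
  obtain ⟨p, hp, hle⟩ := Ideal.exists_le_maximal _ hne
  obtain ⟨L, _, _, _, _, _, hL⟩ := h ⟨p, hp.isPrime⟩
  have : IsScalarTower A C L := inferInstance
  have : IsLocalizedModule p.primeCompl (AlgebraTensorModule.rTensor A M (Algebra.linearMap C L)) := inferInstance
  have h2 : AlgebraTensorModule.rTensor A M (Algebra.linearMap C L) z = 0 := hL
  obtain ⟨c, hc⟩ := (IsLocalizedModule.eq_zero_iff p.primeCompl _).1 h2
  exact c.2 (hle ((Submodule.mem_annihilator_span_singleton _ _).2 hc))

variable {A B B' M : Type*} [CommRing A] [CommRing B] [CommRing B'] [Algebra A B] [Algebra A B']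
  [AddCommGroup M] [Module A M]

/-- An equalised element of `B ⊗ M` comes from `M`. -/
theorem exists_of_equalised [Module.FaithfullyFlat A B] (z : B ⊗[A] M)
    (h : (Algebra.TensorProduct.includeLeft : B →ₐ[A] B ⊗[A] B).toLinearMap.rTensor M z =
      (Algebra.TensorProduct.includeRight : B →ₐ[A] B ⊗[A] B).toLinearMap.rTensor M z) :
    ∃ m, 1 ⊗ₜ m = z := by
  let π := (LinearMap.range (TensorProduct.mk A B M 1)).mkQ
  let Ψ : (B ⊗[A] B) ⊗[A] M →ₗ[A] B ⊗[A] ((B ⊗[A] M) ⧸ LinearMap.range (TensorProduct.mk A B M 1)) :=
    π.lTensor B ∘ₗ (TensorProduct.assoc A B B M).toLinearMap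
  have h1 : ∀ w : B ⊗[A] M, Ψ ((Algebra.TensorProduct.includeLeft : B →ₐ[A] B ⊗[A] B).toLinearMap.rTensor M w) = 0 := by
    intro w
    induction w using TensorProduct.induction_on with
    | zero => simp
    | tmul b m =>
      have : π (1 ⊗ₜ m) = 0 := (Submodule.Quotient.mk_eq_zero _).2 ⟨m, rfl⟩
      simp [Ψ, this]
    | add p q hp hq => rw [map_add, map_add, hp, hq, add_zero]
  have h2 : ∀ w : B ⊗[A] M,
      Ψ ((Algebra.TensorProduct.includeRight : B →ₐ[A] B ⊗[A] B).toLinearMap.rTensor M w) = 1 ⊗ₜ π w := by
    intro w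
    induction w using TensorProduct.induction_on with
    | zero => simp
    | tmul b m => simp [Ψ]
    | add p q hp hq => simp only [map_add, hp, hq, tmul_add]
  have h3 : π z = 0 := by
    refine Module.FaithfullyFlat.tensorProduct_mk_injective (A := A) (B := B) _ ?_
    simp only [TensorProduct.mk_apply, tmul_zero, ← h2, ← h, h1]
  exact (Submodule.Quotient.mk_eq_zero _).1 h3

/-- An element equalised with the image of an element of `M` is that image. -/
theorem eq_of_equalised [Module.FaithfullyFlat A B] (m : M) (z' : B' ⊗[A] M)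
    (h : (Algebra.TensorProduct.includeLeft : B →ₐ[A] B ⊗[A] B').toLinearMap.rTensor M (1 ⊗ₜ m) =
      (Algebra.TensorProduct.includeRight : B' →ₐ[A] B ⊗[A] B').toLinearMap.rTensor M z') : 1 ⊗ₜ m = z' := by
  have h2 : ∀ w : B' ⊗[A] M, TensorProduct.assoc A B B' M
      ((Algebra.TensorProduct.includeRight : B' →ₐ[A] B ⊗[A] B').toLinearMap.rTensor M w) = 1 ⊗ₜ w := by
    intro w
    induction w using TensorProduct.induction_on with
    | zero => simp
    | tmul b m => simp
    | add p q hp hq => simp only [map_add, hp, hq, tmul_add]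
  refine Module.FaithfullyFlat.tensorProduct_mk_injective (A := A) (B := B) _ ?_
  simp only [TensorProduct.mk_apply, ← h2, ← h]
  simp

end Groth.Agent.Desc44.QCohDescent
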