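import Groth.Agent.Desc44.QCohDescent.Stalk

/-!
# Descent of sections of modules compatible with specialisations
-/

set_option autoImplicit false
set_option backward.isDefEq.respectTransparency false
set_option backward.isDefEq.respectTransparency.types false

universe u

open CategoryTheory CategoryTheory.Limits AlgebraicGeometry TopologicalSpace Opposite
open Groth.Agent.PullStalk.Sky Groth.Agent.PullStalk.Exact Groth.Agent.PullStalk.Basic
open scoped TensorProduct

noncomputable section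

namespace Groth.Agent.Desc44.QCohDescent

variable {X Y T T' : Scheme.{u}}

lemma specializes_trans {f : X ⟶ Y} {a : T ⟶ X} {g : T ⟶ Y} (hg : a ≫ f = g) {t : T} {x : X} {y : Y}
    (h1 : a t ⤳ x) (h2 : f x ⤳ y) : g t ⤳ y := by
  subst hg
  exact (h1.map f.continuous).trans h2

lemma κ_trans (f : X ⟶ Y) (a : T ⟶ X) (g : T ⟶ Y) (hg : a ≫ f = g) (t : T) {x : X} (h1 : a t ⤳ x) {y : Y}
    (h2 : f x ⤳ y) (h : g t ⤳ y) (r : Y.presheaf.stalk y) : κ g t h r = κ a t h1 (κ f x h2 r) := by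
  subst hg
  obtain ⟨V, hy, r, rfl⟩ := Y.presheaf.exists_germ_eq (x := y) r
  rw [κ_germ, κ_germ, κ_germ]
  rfl

lemma κ_comp (c : T' ⟶ T) (g : T ⟶ Y) (u : T' ⟶ Y) (hu : c ≫ g = u) (w : T') {y : Y} (h : g (c w) ⤳ y)
    (h' : u w ⤳ y) (r : Y.presheaf.stalk y) : c.stalkMap w (κ g (c w) h r) = κ u w h' r := by
  subst hu
  obtain ⟨V, hy, r, rfl⟩ := Y.presheaf.exists_germ_eq (x := y) r
  rw [κ_germ, κ_germ, Scheme.Hom.germ_stalkMap_apply]
  rfl

lemma κ_fromSpecStalk (x : X) {C : CommRingCat.{u}} (φ : X.presheaf.stalk x ⟶ C) (p : Spec C)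
    (h : (Spec.map φ ≫ X.fromSpecStalk x) p ⤳ x) (r : X.presheaf.stalk x) :
    κ (Spec.map φ ≫ X.fromSpecStalk x) p h r =
      (Spec C).presheaf.germ ⊤ p trivial ((Scheme.ΓSpecIso C).inv (φ r)) := by
  obtain ⟨V, hx, r, rfl⟩ := X.presheaf.exists_germ_eq (x := x) r
  rw [κ_germ]
  have h1 : (Spec.map φ ≫ X.fromSpecStalk x).app V = X.presheaf.germ V x hx ≫ φ ≫ (Scheme.ΓSpecIso C).inv ≫
      (Spec C).presheaf.map (homOfLE le_top).op := by
    rw [Scheme.Hom.comp_app, Scheme.fromSpecStalk_app hx, Category.assoc, Category.assoc, Scheme.Hom.naturality]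
    simp only [← Category.assoc]
    congr 1
    simp only [Category.assoc]
    congr 1
    exact (Scheme.ΓSpecIso_inv_naturality φ).symm
  rw [h1]
  exact TopCat.Presheaf.germ_res_apply (Spec C).presheaf (homOfLE le_top) p (h.mem_open V.isOpen hx)
    ((Scheme.ΓSpecIso C).inv (φ (X.presheaf.germ V x hx r)))

/-- The identification `a^* f^* M ≅ g^* M`. -/
def θ (f : X ⟶ Y) (M : Y.Modules) (a : T ⟶ X) (g : T ⟶ Y) (hg : a ≫ f = g) :
    (Scheme.Modules.pullback a).obj ((Scheme.Modules.pullback f).obj M) ⟶ (Scheme.Modules.pullback g).obj M :=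
  (Scheme.Modules.pullbackComp a f).hom.app M ≫ (Scheme.Modules.pullbackCongr hg).hom.app M

lemma θ_unitSec (f : X ⟶ Y) (M : Y.Modules) (a : T ⟶ X) (V : Y.Opens) (m : Γ(M, V)) :
    (θ f M a (a ≫ f) rfl).app (a ⁻¹ᵁ (f ⁻¹ᵁ V))
        (LFFrame.unitSec a _ (f ⁻¹ᵁ V) (LFFrame.unitSec f M V m)) =
      LFFrame.unitSec (a ≫ f) M V m := by
  have h0 : θ f M a (a ≫ f) rfl = (Scheme.Modules.pullbackComp a f).hom.app M := by
    simp [θ, Scheme.Modules.pullbackCongr]
  rw [h0]
  refine Eq.trans (congrArg _ (Omega.Lift.pullbackComp_inv_pullSect (Ω := M) (j := a) (h := f) V m).symm) ?_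
  exact congr(Scheme.Modules.Hom.app $((Scheme.Modules.pullbackComp a f).inv_hom_id_app M)
    ((a ≫ f) ⁻¹ᵁ V) (LFFrame.unitSec (a ≫ f) M V m))

/-- Stalks of `f^* M` to stalks of `g^* M`. -/
def lam (f : X ⟶ Y) (M : Y.Modules) (a : T ⟶ X) (g : T ⟶ Y) (hg : a ≫ f = g) (t : T) {x : X} (h : a t ⤳ x) :
    ((Scheme.Modules.pullback f).obj M).presheaf.stalk x →+ ((Scheme.Modules.pullback g).obj M).presheaf.stalk t :=
  (stalkLin (θ f M a g hg) t).toAddMonoidHom.comp (μ a _ t h)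

lemma lam_smul (f : X ⟶ Y) (M : Y.Modules) (a : T ⟶ X) (g : T ⟶ Y) (hg : a ≫ f = g) (t : T) {x : X}
    (h : a t ⤳ x) (r : X.presheaf.stalk x) (u : ((Scheme.Modules.pullback f).obj M).presheaf.stalk x) :
    lam f M a g hg t h (r • u) = κ a t h r • lam f M a g hg t h u := by
  show stalkLin (θ f M a g hg) t (μ a _ t h (r • u)) = _
  rw [μ_smul, map_smul]
  rfl

lemma lam_μ (f : X ⟶ Y) (M : Y.Modules) (a : T ⟶ X) (g : T ⟶ Y) (hg : a ≫ f = g) (t : T) {x : X}
    (h : a t ⤳ x) {y : Y} (h2 : f x ⤳ y) (h3 : g t ⤳ y) (m : M.presheaf.stalk y) :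
    lam f M a g hg t h (μ f M x h2 m) = μ g M t h3 m := by
  subst hg
  obtain ⟨V, hy, m, rfl⟩ := exists_germM_eq M y m
  show stalkLin (θ f M a _ rfl) t (μ a _ t h (μ f M x h2 (germM M V y hy m))) = _
  rw [μ_germ, μ_germ, μ_germ, stalkLin_germ]
  exact congrArg (germM _ ((a ≫ f) ⁻¹ᵁ V) t (h3.mem_open V.isOpen hy)) (θ_unitSec f M a V m)

/-- The germ of a pulled back section. -/
lemma lam_germ (f : X ⟶ Y) (M : Y.Modules) (a : T ⟶ X) (g : T ⟶ Y) (hg : a ≫ f = g) (t : T) {x : X}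
    (h : a t ⤳ x) (W : X.Opens) (hx : x ∈ W) (s : Γ((Scheme.Modules.pullback f).obj M, W)) :
    lam f M a g hg t h (germM _ W x hx s) =
      germM _ (a ⁻¹ᵁ W) t (h.mem_open W.isOpen hx) ((θ f M a g hg).app (a ⁻¹ᵁ W) (LFFrame.unitSec a _ W s)) := by
  show stalkLin (θ f M a g hg) t (μ a _ t h (germM _ W x hx s)) = _
  rw [μ_germ, stalkLin_germ]

lemma faithfullyFlat_κ (f : X ⟶ Y) [Flat f] (x : X) :
    letI := (κ f x (specializes_of_eq (rfl : f x = f x))).hom.toAlgebra
    Module.FaithfullyFlat (Y.presheaf.stalk (f x)) (X.presheaf.stalk x) := by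
  have e : κ f x (specializes_of_eq (rfl : f x = f x)) = f.stalkMap x := by
    simp [κ, TopCat.Presheaf.stalkSpecializes_refl]
  rw [e]
  exact FDesc.Stalk.faithfullyFlat_stalkMap f x (Flat.stalkMap f x)

variable {X₁ X₂ : Scheme.{u}}

/-- Two elements agreeing at all points over a pair of points agree in the tensor product. -/
theorem core {M : Y.Modules} (hM : IsGenCompat M) (f₁ : X₁ ⟶ Y) (f₂ : X₂ ⟶ Y) {x : X₁} {x' : X₂} {y : Y}
    (hy : f₁ x = y) (hy' : f₂ x' = y)
    (u : ((Scheme.Modules.pullback f₁).obj M).presheaf.stalk x)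
    (u' : ((Scheme.Modules.pullback f₂).obj M).presheaf.stalk x')
    (hcond : ∀ (t : ↥(pullback f₁ f₂)) (h₁ : pullback.fst f₁ f₂ t ⤳ x) (h₂ : pullback.snd f₁ f₂ t ⤳ x'),
      lam f₁ M (pullback.fst f₁ f₂) (pullback.fst f₁ f₂ ≫ f₁) rfl t h₁ u =
        lam f₂ M (pullback.snd f₁ f₂) (pullback.fst f₁ f₂ ≫ f₁) pullback.condition.symm t h₂ u') :
    letI := (κ f₁ x (specializes_of_eq hy)).hom.toAlgebra
    letI := (κ f₂ x' (specializes_of_eq hy')).hom.toAlgebra
    letI : Module (Y.presheaf.stalk y) (((Scheme.Modules.pullback f₁).obj M).presheaf.stalk x) :=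
      Module.compHom _ (κ f₁ x (specializes_of_eq hy)).hom
    haveI : IsScalarTower (Y.presheaf.stalk y) (X₁.presheaf.stalk x)
        (((Scheme.Modules.pullback f₁).obj M).presheaf.stalk x) := IsScalarTower.of_algebraMap_smul fun _ _ => rfl
    letI : Module (Y.presheaf.stalk y) (((Scheme.Modules.pullback f₂).obj M).presheaf.stalk x') :=
      Module.compHom _ (κ f₂ x' (specializes_of_eq hy')).hom
    haveI : IsScalarTower (Y.presheaf.stalk y) (X₂.presheaf.stalk x')
        (((Scheme.Modules.pullback f₂).obj M).presheaf.stalk x') := IsScalarTower.of_algebraMap_smul fun _ _ => rfl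
    ∀ (z : X₁.presheaf.stalk x ⊗[Y.presheaf.stalk y] M.presheaf.stalk y)
      (z' : X₂.presheaf.stalk x' ⊗[Y.presheaf.stalk y] M.presheaf.stalk y),
      (isBaseChange_μ hM f₁ x (specializes_of_eq hy)).equiv z = u →
      (isBaseChange_μ hM f₂ x' (specializes_of_eq hy')).equiv z' = u' →
        (Algebra.TensorProduct.includeLeft : X₁.presheaf.stalk x →ₐ[Y.presheaf.stalk y]
            X₁.presheaf.stalk x ⊗[Y.presheaf.stalk y] X₂.presheaf.stalk x').toLinearMap.rTensor _ z =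
          (Algebra.TensorProduct.includeRight : X₂.presheaf.stalk x' →ₐ[Y.presheaf.stalk y]
            X₁.presheaf.stalk x ⊗[Y.presheaf.stalk y] X₂.presheaf.stalk x').toLinearMap.rTensor _ z' := by
  let h0 : f₁ x ⤳ y := specializes_of_eq hy
  let h0' : f₂ x' ⤳ y := specializes_of_eq hy'
  let := (κ f₁ x h0).hom.toAlgebra
  let := (κ f₂ x' h0').hom.toAlgebra
  intro z z' hz hz'
  let C := X₁.presheaf.stalk x ⊗[Y.presheaf.stalk y] X₂.presheaf.stalk x'
  let φl : X₁.presheaf.stalk x ⟶ CommRingCat.of C :=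
    CommRingCat.ofHom (Algebra.TensorProduct.includeLeft : X₁.presheaf.stalk x →ₐ[Y.presheaf.stalk y] C).toRingHom
  let φr : X₂.presheaf.stalk x' ⟶ CommRingCat.of C :=
    CommRingCat.ofHom (Algebra.TensorProduct.includeRight : X₂.presheaf.stalk x' →ₐ[Y.presheaf.stalk y] C).toRingHom
  let u₁ := Spec.map φl ≫ X₁.fromSpecStalk x
  let u₂ := Spec.map φr ≫ X₂.fromSpecStalk x'
  have hu : u₁ ≫ f₁ = u₂ ≫ f₂ := by
    have hA : κ f₁ x h0 ≫ φl = κ f₂ x' h0' ≫ φr :=
      CommRingCat.hom_ext (RingHom.ext fun r => by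
        show (κ f₁ x h0 r) ⊗ₜ[Y.presheaf.stalk y] (1 : X₂.presheaf.stalk x') = (1 : X₁.presheaf.stalk x) ⊗ₜ κ f₂ x' h0' r
        exact (Algebra.TensorProduct.algebraMap_apply r).symm.trans
          (Algebra.TensorProduct.algebraMap_apply' r))
    simp only [u₁, u₂, Category.assoc, ← Scheme.SpecMap_stalkMap_fromSpecStalk,
      ← Scheme.SpecMap_stalkSpecializes_fromSpecStalk h0, ← Scheme.SpecMap_stalkSpecializes_fromSpecStalk h0']
    simp only [← Category.assoc, ← Spec.map_comp]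
    exact congrArg (fun ψ => Spec.map ψ ≫ Y.fromSpecStalk y) hA
  let c := pullback.lift u₁ u₂ hu
  refine sub_eq_zero.1 (eq_zero_of_localizations _ fun p => ?_)
  let L := (Spec (CommRingCat.of C)).presheaf.stalk p
  let : Algebra C L :=
    ((Scheme.ΓSpecIso (CommRingCat.of C)).inv ≫ (Spec (CommRingCat.of C)).presheaf.germ ⊤ p trivial).hom.toAlgebra
  have hloc : IsLocalization.AtPrime L p.asIdeal :=
    inferInstanceAs (IsLocalization.AtPrime ((Spec.structureSheaf C).presheaf.stalk p) p.asIdeal)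
  let : Algebra (Y.presheaf.stalk y) L := Algebra.compHom L (algebraMap (Y.presheaf.stalk y) C)
  have : IsScalarTower (Y.presheaf.stalk y) C L := IsScalarTower.of_algebraMap_eq fun _ => rfl
  refine ⟨L, inferInstance, inferInstance, hloc, inferInstance, inferInstance, ?_⟩
  rw [map_sub, sub_eq_zero]
  let T := pullback f₁ f₂
  let p₁ := pullback.fst f₁ f₂
  let p₂ := pullback.snd f₁ f₂
  let g := p₁ ≫ f₁
  let t : T := c p
  have hl : c ≫ p₁ = u₁ := pullback.lift_fst _ _ _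
  have hr : c ≫ p₂ = u₂ := pullback.lift_snd _ _ _
  have hu₁ : u₁ p ⤳ x := by
    have := Scheme.range_fromSpecStalk (X := X₁) (x := x) ▸ Set.mem_range_self ((Spec.map φl) p)
    exact this
  have hu₂ : u₂ p ⤳ x' := by
    have := Scheme.range_fromSpecStalk (X := X₂) (x := x') ▸ Set.mem_range_self ((Spec.map φr) p)
    exact this
  have h₁ : p₁ t ⤳ x := by
    show (c ≫ p₁) p ⤳ x
    rw [hl]; exact hu₁
  have h₂ : p₂ t ⤳ x' := by
    show (c ≫ p₂) p ⤳ x'
    rw [hr]; exact hu₂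
  have hgt : g t ⤳ y := specializes_trans rfl h₁ h0
  let := (κ g t hgt).hom.toAlgebra
  let φ₁ : X₁.presheaf.stalk x →ₐ[Y.presheaf.stalk y] T.presheaf.stalk t :=
    { (κ p₁ t h₁).hom with commutes' := fun r => (κ_trans f₁ p₁ g rfl t h₁ h0 hgt r).symm }
  let φ₂ : X₂.presheaf.stalk x' →ₐ[Y.presheaf.stalk y] T.presheaf.stalk t :=
    { (κ p₂ t h₂).hom with commutes' := fun r => (κ_trans f₂ p₂ g pullback.condition.symm t h₂ h0' hgt r).symm }
  let : Module (Y.presheaf.stalk y) (((Scheme.Modules.pullback g).obj M).presheaf.stalk t) :=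
    Module.compHom _ (κ g t hgt).hom
  have : IsScalarTower (Y.presheaf.stalk y) (T.presheaf.stalk t)
      (((Scheme.Modules.pullback g).obj M).presheaf.stalk t) := IsScalarTower.of_algebraMap_smul fun _ _ => rfl
  let : Module (Y.presheaf.stalk y) (((Scheme.Modules.pullback f₁).obj M).presheaf.stalk x) :=
    Module.compHom _ (κ f₁ x h0).hom
  have : IsScalarTower (Y.presheaf.stalk y) (X₁.presheaf.stalk x)
      (((Scheme.Modules.pullback f₁).obj M).presheaf.stalk x) := IsScalarTower.of_algebraMap_smul fun _ _ => rfl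
  let : Module (Y.presheaf.stalk y) (((Scheme.Modules.pullback f₂).obj M).presheaf.stalk x') :=
    Module.compHom _ (κ f₂ x' h0').hom
  have : IsScalarTower (Y.presheaf.stalk y) (X₂.presheaf.stalk x')
      (((Scheme.Modules.pullback f₂).obj M).presheaf.stalk x') := IsScalarTower.of_algebraMap_smul fun _ _ => rfl
  have e₁ : ∀ w, lam f₁ M p₁ g rfl t h₁ ((isBaseChange_μ hM f₁ x h0).equiv w) =
      (isBaseChange_μ hM g t hgt).equiv (φ₁.toLinearMap.rTensor _ w) := by
    intro w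
    induction w using TensorProduct.induction_on with
    | zero => simp
    | tmul r m =>
      rw [IsBaseChange.equiv_tmul, LinearMap.rTensor_tmul, IsBaseChange.equiv_tmul, lam_smul]
      exact congrArg (κ p₁ t h₁ r • ·) (lam_μ f₁ M p₁ g rfl t h₁ h0 hgt m)
    | add a b ha hb => simp only [map_add, ha, hb]
  have e₂ : ∀ w, lam f₂ M p₂ g pullback.condition.symm t h₂ ((isBaseChange_μ hM f₂ x' h0').equiv w) =
      (isBaseChange_μ hM g t hgt).equiv (φ₂.toLinearMap.rTensor _ w) := by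
    intro w
    induction w using TensorProduct.induction_on with
    | zero => simp
    | tmul r m =>
      rw [IsBaseChange.equiv_tmul, LinearMap.rTensor_tmul, IsBaseChange.equiv_tmul, lam_smul]
      exact congrArg (κ p₂ t h₂ r • ·) (lam_μ f₂ M p₂ g pullback.condition.symm t h₂ h0' hgt m)
    | add a b ha hb => simp only [map_add, ha, hb]
  have key : φ₁.toLinearMap.rTensor _ z = φ₂.toLinearMap.rTensor _ z' := by
    refine (isBaseChange_μ hM g t hgt).equiv.injective ?_
    rw [← e₁, ← e₂, hz, hz']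
    exact hcond t h₁ h₂
  let ψ : T.presheaf.stalk t →ₐ[Y.presheaf.stalk y] L :=
    { (c.stalkMap p).hom with
      commutes' := fun r => by
        show c.stalkMap p (κ g t hgt r) = algebraMap C L (κ f₁ x h0 r ⊗ₜ[Y.presheaf.stalk y] 1)
        rw [κ_trans f₁ p₁ g rfl t h₁ h0 hgt r, κ_comp c p₁ u₁ hl p h₁ hu₁, κ_fromSpecStalk]
        rfl }
  have hψ₁ : ψ.comp φ₁ = (IsScalarTower.toAlgHom (Y.presheaf.stalk y) C L).comp
      Algebra.TensorProduct.includeLeft := by
    refine AlgHom.ext fun r => ?_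
    show c.stalkMap p (κ p₁ t h₁ r) = _
    rw [κ_comp c p₁ u₁ hl p h₁ hu₁, κ_fromSpecStalk]
    rfl
  have hψ₂ : ψ.comp φ₂ = (IsScalarTower.toAlgHom (Y.presheaf.stalk y) C L).comp
      Algebra.TensorProduct.includeRight := by
    refine AlgHom.ext fun r => ?_
    show c.stalkMap p (κ p₂ t h₂ r) = _
    rw [κ_comp c p₂ u₂ hr p h₂ hu₂, κ_fromSpecStalk]
    rfl
  rw [← LinearMap.rTensor_comp_apply, ← LinearMap.rTensor_comp_apply, ← AlgHom.comp_toLinearMap,
    ← AlgHom.comp_toLinearMap, ← hψ₁, ← hψ₂, AlgHom.comp_toLinearMap, AlgHom.comp_toLinearMap,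
    LinearMap.rTensor_comp_apply, LinearMap.rTensor_comp_apply, key]

/-- An element equalised at all points over a pair comes from the base. -/
theorem exists_stalk {M : Y.Modules} (hM : IsGenCompat M) (f : X ⟶ Y) [Flat f] (x : X)
    (u : ((Scheme.Modules.pullback f).obj M).presheaf.stalk x)
    (hcond : ∀ (t : ↥(pullback f f)) (h₁ : pullback.fst f f t ⤳ x) (h₂ : pullback.snd f f t ⤳ x),
      lam f M (pullback.fst f f) (pullback.fst f f ≫ f) rfl t h₁ u =
        lam f M (pullback.snd f f) (pullback.fst f f ≫ f) pullback.condition.symm t h₂ u) :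
    ∃ m, μ f M x (specializes_of_eq (rfl : f x = f x)) m = u := by
  let h0 : f x ⤳ f x := specializes_of_eq rfl
  let := (κ f x h0).hom.toAlgebra
  let : Module (Y.presheaf.stalk (f x)) (((Scheme.Modules.pullback f).obj M).presheaf.stalk x) :=
    Module.compHom _ (κ f x h0).hom
  have : IsScalarTower (Y.presheaf.stalk (f x)) (X.presheaf.stalk x)
      (((Scheme.Modules.pullback f).obj M).presheaf.stalk x) := IsScalarTower.of_algebraMap_smul fun _ _ => rfl
  have := faithfullyFlat_κ f x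
  obtain ⟨z, hz⟩ := (isBaseChange_μ hM f x h0).equiv.surjective u
  obtain ⟨m, rfl⟩ := exists_of_equalised z (core hM f f rfl rfl u u hcond z z hz hz)
  refine ⟨m, ?_⟩
  rw [← hz, IsBaseChange.equiv_tmul, one_smul]
  rfl

/-- An element equalised with one coming from the base comes from the same one. -/
theorem eq_stalk {M : Y.Modules} (hM : IsGenCompat M) (f₁ : X₁ ⟶ Y) [Flat f₁] (f₂ : X₂ ⟶ Y) (x : X₁) (x' : X₂)
    (hy : f₂ x' = f₁ x) (m : M.presheaf.stalk (f₁ x))
    (u' : ((Scheme.Modules.pullback f₂).obj M).presheaf.stalk x')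
    (hcond : ∀ (t : ↥(pullback f₁ f₂)) (h₁ : pullback.fst f₁ f₂ t ⤳ x) (h₂ : pullback.snd f₁ f₂ t ⤳ x'),
      lam f₁ M (pullback.fst f₁ f₂) (pullback.fst f₁ f₂ ≫ f₁) rfl t h₁ (μ f₁ M x (specializes_of_eq rfl) m) =
        lam f₂ M (pullback.snd f₁ f₂) (pullback.fst f₁ f₂ ≫ f₁) pullback.condition.symm t h₂ u') :
    μ f₂ M x' (specializes_of_eq hy) m = u' := by
  let h0 : f₁ x ⤳ f₁ x := specializes_of_eq rfl
  let h0' : f₂ x' ⤳ f₁ x := specializes_of_eq hy
  let := (κ f₁ x h0).hom.toAlgebra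
  let := (κ f₂ x' h0').hom.toAlgebra
  let : Module (Y.presheaf.stalk (f₁ x)) (((Scheme.Modules.pullback f₁).obj M).presheaf.stalk x) :=
    Module.compHom _ (κ f₁ x h0).hom
  have : IsScalarTower (Y.presheaf.stalk (f₁ x)) (X₁.presheaf.stalk x)
      (((Scheme.Modules.pullback f₁).obj M).presheaf.stalk x) := IsScalarTower.of_algebraMap_smul fun _ _ => rfl
  let : Module (Y.presheaf.stalk (f₁ x)) (((Scheme.Modules.pullback f₂).obj M).presheaf.stalk x') :=
    Module.compHom _ (κ f₂ x' h0').hom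
  have : IsScalarTower (Y.presheaf.stalk (f₁ x)) (X₂.presheaf.stalk x')
      (((Scheme.Modules.pullback f₂).obj M).presheaf.stalk x') := IsScalarTower.of_algebraMap_smul fun _ _ => rfl
  have := faithfullyFlat_κ f₁ x
  obtain ⟨z', hz'⟩ := (isBaseChange_μ hM f₂ x' h0').equiv.surjective u'
  have hm : (isBaseChange_μ hM f₁ x h0).equiv (1 ⊗ₜ m) = μ f₁ M x h0 m := by
    rw [IsBaseChange.equiv_tmul, one_smul]; rfl
  have := eq_of_equalised m z' (core hM f₁ f₂ rfl hy _ u' hcond (1 ⊗ₜ m) z' hm hz')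
  rw [← hz', ← this, IsBaseChange.equiv_tmul, one_smul]
  rfl

end Groth.Agent.Desc44.QCohDescent
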