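import Groth.Agent.Desc44.QCohDescent.Main
import Groth.Prelude.Def_EtAssoc2
import Groth.Agent.EtaleSite.Covers

/-!
# The étale sheaf associated to a quasi-coherent module
-/

set_option autoImplicit false
set_option backward.isDefEq.respectTransparency false
set_option backward.isDefEq.respectTransparency.types false

universe u

open CategoryTheory CategoryTheory.Limits AlgebraicGeometry TopologicalSpace Opposite
open Groth.Agent.PullStalk.Sky Groth.Agent.PullStalk.Exact Groth.Agent.PullStalk.Basic Groth.Agent.LFFrame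

noncomputable section

namespace Groth.Agent.Desc44.QCohDescent

variable {X Y T : Scheme.{u}}

/-- Additive maps out of a stalk of a pullback, semilinear and equal on the image of the unit, are equal. -/
lemma hom_ext_μ (f : X ⟶ Y) (M : Y.Modules) (x : X) {A R : Type u} [AddCommGroup A] [CommRing R] [Module R A]
    (σ : X.presheaf.stalk x →+* R) (φ ψ : ((Scheme.Modules.pullback f).obj M).presheaf.stalk x →+ A)
    (hφ : ∀ r u, φ (r • u) = σ r • φ u) (hψ : ∀ r u, ψ (r • u) = σ r • ψ u)
    (h : ∀ m, φ (μ f M x (specializes_of_eq (rfl : f x = f x)) m) = ψ (μ f M x (specializes_of_eq rfl) m)) :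
    φ = ψ := by
  refine AddMonoidHom.ext fun z => ?_
  let := (f.stalkMap x).hom.toAlgebra
  let := moduleOver f M x
  have : IsScalarTower (Y.presheaf.stalk (f x)) (X.presheaf.stalk x)
      (((Scheme.Modules.pullback f).obj M).presheaf.stalk x) := IsScalarTower.of_algebraMap_smul fun _ _ => rfl
  have hbc := isBaseChange_unitStalk f M x
  have hμ : ∀ m, μ f M x (specializes_of_eq (rfl : f x = f x)) m = unitStalkHom f M x m := by
    intro m
    obtain ⟨V, hV, m, rfl⟩ := exists_germM_eq M (f x) m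
    rw [μ_germ, unitStalkHom_germ]
    rfl
  obtain ⟨w, rfl⟩ := hbc.equiv.surjective z
  induction w using TensorProduct.induction_on with
  | zero => simp
  | tmul r m =>
    rw [hbc.equiv_tmul, hφ, hψ]
    exact congrArg (σ r • ·) (((congrArg φ (hμ m)).symm.trans (h m)).trans (congrArg ψ (hμ m)))
  | add a b ha hb => rw [map_add, map_add, map_add, ha, hb]

variable {Z W : Scheme.{u}}

lemma lam_trans (u : X ⟶ Y) (M : Y.Modules) (a : T ⟶ X) (v : T ⟶ Y) (hv : a ≫ u = v) (b : W ⟶ T) (w : W ⟶ Y)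
    (hw : b ≫ v = w) (hw' : (b ≫ a) ≫ u = w) (t : W) {x : X} (h : (b ≫ a) t ⤳ x) (h1 : a (b t) ⤳ x)
    (h2 : b t ⤳ b t) (z : ((Scheme.Modules.pullback u).obj M).presheaf.stalk x) :
    lam u M (b ≫ a) w hw' t h z = lam v M b w hw t h2 (lam u M a v hv (b t) h1 z) := by
  have hz : lam u M (b ≫ a) w hw' t h =
      (lam v M b w hw t h2).comp (lam u M a v hv (b t) h1) := by
    refine hom_ext_μ u M x (κ (b ≫ a) t h).hom _ _ (fun r z => lam_smul u M (b ≫ a) w hw' t h r z)
      (fun r z => ?_) fun m => ?_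
    · simp only [AddMonoidHom.comp_apply, lam_smul]
      exact congrArg (· • _) (κ_trans a b (b ≫ a) rfl t h2 h1 h r).symm
    · have hy : v (b t) ⤳ u x := specializes_trans hv h1 specializes_rfl
      have hy' : w t ⤳ u x := specializes_trans hw' h specializes_rfl
      rw [AddMonoidHom.comp_apply, lam_μ u M (b ≫ a) w hw' t h (specializes_of_eq rfl) hy' m,
        lam_μ u M a v hv (b t) h1 (specializes_of_eq rfl) hy m, lam_μ v M b w hw t h2 hy hy' m]
  exact DFunLike.congr_fun hz z

lemma lam_id (u : X ⟶ Y) (M : Y.Modules) (hv : 𝟙 X ≫ u = u) (x : X) (h : (𝟙 X : X ⟶ X) x ⤳ x)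
    (z : ((Scheme.Modules.pullback u).obj M).presheaf.stalk x) : lam u M (𝟙 X) u hv x h z = z := by
  have hκ : ∀ r, κ (𝟙 X) x h r = r := fun r => by
    obtain ⟨V, hV, r, rfl⟩ := X.presheaf.exists_germ_eq (x := x) r
    rw [κ_germ]
    simp
    rfl
  have hz : lam u M (𝟙 X) u hv x h = AddMonoidHom.id _ := by
    refine hom_ext_μ u M x (RingHom.id _) _ _ (fun r z => ?_) (fun r z => rfl) fun m => ?_
    · rw [lam_smul, hκ]; rfl
    · exact lam_μ u M (𝟙 X) u hv x h (specializes_of_eq rfl) (specializes_of_eq rfl) m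
  exact DFunLike.congr_fun hz z

/-- Transport of a double pullback commutes with `lam`. -/
lemma θ_lam (u : X ⟶ Y) (M : Y.Modules) (g : Z ⟶ X) (v : Z ⟶ Y) (hv : g ≫ u = v) (p : T ⟶ Z) (q : T ⟶ X)
    (hq : p ≫ g = q) (w : T ⟶ Y) (hw : q ≫ u = w) (hw' : p ≫ v = w) (t : T) {z : Z} (h : p t ⤳ z)
    (σ : ((Scheme.Modules.pullback g).obj ((Scheme.Modules.pullback u).obj M)).presheaf.stalk z) :
    stalkLin (θ u M q w hw) t (lam g ((Scheme.Modules.pullback u).obj M) p q hq t h σ) =
      lam v M p w hw' t h (stalkLin (θ u M g v hv) z σ) := by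
  have hσ : (stalkLin (θ u M q w hw) t).toAddMonoidHom.comp (lam g ((Scheme.Modules.pullback u).obj M) p q hq t h) =
      (lam v M p w hw' t h).comp (stalkLin (θ u M g v hv) z).toAddMonoidHom := by
    refine hom_ext_μ g _ z (κ p t h).hom _ _ (fun r a => ?_) (fun r a => ?_) fun n => ?_
    · simp only [AddMonoidHom.comp_apply, LinearMap.toAddMonoidHom_coe, lam_smul, map_smul]
    · simp only [AddMonoidHom.comp_apply, LinearMap.toAddMonoidHom_coe, lam_smul, map_smul]
    have hqx : q t ⤳ g z := specializes_trans hq h specializes_rfl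
    simp only [AddMonoidHom.comp_apply, LinearMap.toAddMonoidHom_coe]
    rw [lam_μ g _ p q hq t h (specializes_of_eq rfl) hqx n]
    show lam u M q w hw t hqx n = lam v M p w hw' t h (lam u M g v hv z (specializes_of_eq rfl) n)
    have hn : lam u M q w hw t hqx = (lam v M p w hw' t h).comp (lam u M g v hv z (specializes_of_eq rfl)) := by
      refine hom_ext_μ u M (g z) (κ q t hqx).hom _ _ (fun r a => lam_smul u M q w hw t hqx r a) (fun r a => ?_)
        fun m => ?_
      · simp only [AddMonoidHom.comp_apply, lam_smul]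
        exact congrArg (· • _) (κ_trans g p q hq t h (specializes_of_eq rfl) hqx r).symm
      · have hy : v z ⤳ u (g z) := specializes_trans hv (specializes_of_eq rfl) specializes_rfl
        have hy' : w t ⤳ u (g z) := specializes_trans hw hqx specializes_rfl
        rw [AddMonoidHom.comp_apply, lam_μ u M q w hw t hqx (specializes_of_eq rfl) hy' m,
          lam_μ u M g v hv z (specializes_of_eq rfl) (specializes_of_eq rfl) hy m, lam_μ v M p w hw' t h hy hy' m]
    exact DFunLike.congr_fun hn n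
  exact DFunLike.congr_fun hσ σ

variable {S : Scheme.{u}} (F : S.Modules)

lemma step2a_eq {U U' : S.Etale} (g : U' ⟶ U) :
    EtAssoc.step2a F g = θ U.hom F g.left U'.hom (Over.w g.hom) := by
  simp [EtAssoc.step2a, θ, Scheme.Modules.pullbackCongr, eqToHom_app]

lemma germ_resMap {U U' : S.Etale} (g : U' ⟶ U) (s : EtAssoc.obj F U) (t : U'.left) :
    germM ((Scheme.Modules.pullback U'.hom).obj F) ⊤ t trivial (EtAssoc.resMap F g s) =
      lam U.hom F g.left U'.hom (Over.w g.hom) t specializes_rfl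
        (germM ((Scheme.Modules.pullback U.hom).obj F) ⊤ (g.left t) trivial s) := by
  refine Eq.trans ?_ (lam_germ U.hom F g.left U'.hom (Over.w g.hom) t specializes_rfl ⊤ trivial s).symm
  show germM _ ⊤ t trivial ((EtAssoc.step2a F g).app ⊤ _) = _
  rw [step2a_eq]
  refine (stalkLin_germ _ ⊤ t trivial _).symm.trans ?_
  refine Eq.trans ?_ (stalkLin_germ _ (g.left ⁻¹ᵁ ⊤) t trivial _)
  congr 1
  exact (((Scheme.Modules.pullback g.left).obj ((Scheme.Modules.pullback U.hom).obj F)).presheaf.germ_res_apply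
    (eqToHom (Opens.map_top g.left.base).symm) t trivial _)

lemma sect_ext {U : S.Etale} {a b : EtAssoc.obj F U}
    (h : ∀ x, germM ((Scheme.Modules.pullback U.hom).obj F) ⊤ x trivial a =
      germM ((Scheme.Modules.pullback U.hom).obj F) ⊤ x trivial b) : a = b :=
  TopCat.Presheaf.section_ext ⟨_, ((Scheme.Modules.pullback U.hom).obj F).isSheaf⟩ ⊤ a b fun x _ => h x

lemma resMap_id {U : S.Etale} (s : EtAssoc.obj F U) : EtAssoc.resMap F (𝟙 U) s = s :=
  sect_ext F fun x => (germ_resMap F (𝟙 U) s x).trans (lam_id U.hom F (Category.id_comp _) x specializes_rfl _)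

lemma resMap_comp {U U' U'' : S.Etale} (g' : U'' ⟶ U') (g : U' ⟶ U) (s : EtAssoc.obj F U) :
    EtAssoc.resMap F (g' ≫ g) s = EtAssoc.resMap F g' (EtAssoc.resMap F g s) :=
  sect_ext F fun x => by
    rw [germ_resMap, germ_resMap, germ_resMap]
    exact lam_trans U.hom F g.left U'.hom (Over.w g.hom) g'.left U''.hom (Over.w g'.hom) (Over.w (g' ≫ g).hom) x
      specializes_rfl specializes_rfl specializes_rfl _

/-- The presheaf `U ↦ Γ(U, u^* F)`. -/
def assocPresheaf : S.Etaleᵒᵖ ⥤ AddCommGrpCat.{u + 1} where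
  obj U := AddCommGrpCat.of (ULift.{u + 1} (EtAssoc.obj F U.unop))
  map g := AddCommGrpCat.ofHom (AddMonoidHom.mk' (fun s => ULift.up (EtAssoc.resMap F g.unop s.down))
    fun a b => congrArg ULift.up (map_add (EtAssoc.resMap F g.unop).hom a.down b.down))
  map_id U := by
    ext s
    exact congrArg ULift.down (congrArg ULift.up (resMap_id F s.down))
  map_comp g h := by
    ext s
    exact resMap_comp F h.unop g.unop s.down

theorem isSheaf_assocPresheaf [F.IsQuasicoherent] : Presheaf.IsSheaf S.smallEtaleTopology (assocPresheaf F) := by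
  rw [Presheaf.isSheaf_iff_isSheaf_forget _ _ (CategoryTheory.forget AddCommGrpCat), isSheaf_iff_isSheaf_of_type]
  intro U R hR x hx
  let M := (Scheme.Modules.pullback U.hom).obj F
  have : M.IsQuasicoherent := QCoh.isQuasicoherent_pullback U.hom F
  let J := Σ V : S.Etale, {g : V ⟶ U // R g}
  let Xf : J → Scheme.{u} := fun j => j.1.left
  let f : ∀ j : J, Xf j ⟶ U.left := fun j => j.2.1.left
  have het : ∀ j : J, Etale (f j) := fun j => by
    have : Etale (j.2.1.left ≫ U.hom) := by rw [Over.w j.2.1.hom]; exact j.1.prop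
    exact MorphismProperty.of_postcomp @Etale (W' := @Etale) j.2.1.left U.hom U.prop this
  have hsurj : ∀ y, ∃ j z, f j z = y := fun y => by
    obtain ⟨V, g, v, hg, hv⟩ := EtaleSite.Covers.exists_of_mem hR y
    exact ⟨⟨V, g, hg⟩, v, hv⟩
  have hopen : ∀ V : Set U.left, (∀ j, IsOpen (f j ⁻¹' V)) → IsOpen V := fun V hV => by
    refine isOpen_iff_forall_mem_open.2 fun y hy => ?_
    obtain ⟨j, z, rfl⟩ := hsurj y
    exact ⟨f j '' (f j ⁻¹' V), Set.image_preimage_subset _ _,
      (f j).isOpenMap _ (hV j), z, hy, rfl⟩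
  have hflat : ∀ j, Flat (f j) := fun j => inferInstance
  have hθ : ∀ j, IsIso (θ U.hom F (f j) j.1.hom (Over.w j.2.1.hom)) := fun j => by unfold θ; infer_instance
  let σ : ∀ j, Γ((Scheme.Modules.pullback (f j)).obj M, f j ⁻¹ᵁ ⊤) := fun j =>
    (inv (θ U.hom F (f j) j.1.hom (Over.w j.2.1.hom))).app ⊤ (x j.2.1 j.2.2).down
  have hσ : ∀ j z, stalkLin (θ U.hom F (f j) j.1.hom (Over.w j.2.1.hom)) z
      (germM _ (f j ⁻¹ᵁ ⊤) z trivial (σ j)) = germM _ ⊤ z trivial (x j.2.1 j.2.2).down := fun j z => by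
    refine (stalkLin_germ _ ⊤ z trivial _).trans (congrArg (germM _ ⊤ z trivial) ?_)
    exact ConcreteCategory.congr_hom (congrArg (fun ψ => Scheme.Modules.Hom.app ψ ⊤)
      (IsIso.inv_hom_id (θ U.hom F (f j) j.1.hom (Over.w j.2.1.hom)))) (x j.2.1 j.2.2).down
  have hagree : ∀ j k, Agree (f j) (f k) M ⊤ (σ j) (σ k) := by
    intro j k t h₁ h₂
    let a := pullback.fst (f j) (f k)
    let b := pullback.snd (f j) (f k)
    let q := a ≫ f j
    let w := q ≫ U.hom
    have hwE : Etale w := inferInstance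
    let W : S.Etale := MorphismProperty.Over.mk ⊤ w hwE
    have hwa : a ≫ j.1.hom = w := (congrArg (a ≫ ·) (Over.w j.2.1.hom).symm).trans (Category.assoc _ _ _).symm
    have hwb : b ≫ k.1.hom = w :=
      (congrArg (b ≫ ·) (Over.w k.2.1.hom).symm).trans ((Category.assoc _ _ _).symm.trans
        (congrArg (· ≫ U.hom) pullback.condition.symm))
    let ga : W ⟶ j.1 := MorphismProperty.Over.homMk a hwa
    let gb : W ⟶ k.1 := MorphismProperty.Over.homMk b hwb
    have hcomp : ga ≫ j.2.1 = gb ≫ k.2.1 := MorphismProperty.Over.Hom.ext pullback.condition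
    have hx' := congrArg ULift.down (hx ga gb j.2.2 k.2.2 hcomp)
    have hx'' : EtAssoc.resMap F ga (x j.2.1 j.2.2).down = EtAssoc.resMap F gb (x k.2.1 k.2.2).down := hx'
    have h := congrArg (fun s => germM ((Scheme.Modules.pullback W.hom).obj F) ⊤ t trivial s) hx''
    rw [germ_resMap, germ_resMap, ← hσ j (ga.left t), ← hσ k (gb.left t)] at h
    have e1 := θ_lam U.hom F (f j) j.1.hom (Over.w j.2.1.hom) a q rfl w rfl hwa t (z := a t) specializes_rfl
      (germM _ (f j ⁻¹ᵁ ⊤) (a t) trivial (σ j))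
    have e2 := θ_lam U.hom F (f k) k.1.hom (Over.w k.2.1.hom) b q pullback.condition.symm w rfl hwb t (z := b t)
      specializes_rfl (germM _ (f k ⁻¹ᵁ ⊤) (b t) trivial (σ k))
    have hinj : Function.Injective (stalkLin (θ U.hom F q w rfl) t) := by
      have : IsIso (θ U.hom F q w rfl) := by unfold θ; infer_instance
      exact Omega.Stalks.stalkLin_injective_of_mono _ t
    have h' := hinj (e1.trans (h.trans e2.symm))
    exact (lam_germ (f j) M a q rfl t specializes_rfl (f j ⁻¹ᵁ ⊤) trivial (σ j)).symm.trans (h'.trans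
      (lam_germ (f k) M b q pullback.condition.symm t specializes_rfl (f k ⁻¹ᵁ ⊤) trivial (σ k)))
  obtain ⟨m, hm⟩ := exists_section_family (isGenCompat_of_qcoh M) f hsurj hopen ⊤ σ hagree
  refine ⟨ULift.up m, fun V g hg => ?_, fun m' hm' => ?_⟩
  · refine congrArg ULift.up (sect_ext F fun z => ?_) |>.trans (ULift.up_down _)
    refine (germ_resMap F g m z).trans ((lam_germ U.hom F g.left V.hom (Over.w g.hom) z specializes_rfl ⊤
      trivial m).trans ?_)
    refine Eq.trans ?_ (hσ ⟨V, g, hg⟩ z)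
    rw [← hm ⟨V, g, hg⟩]
    exact (stalkLin_germ _ (g.left ⁻¹ᵁ ⊤) z trivial _).symm
  · have hm0 : ∀ j : J, EtAssoc.resMap F j.2.1 m'.down = (x j.2.1 j.2.2).down := fun j =>
      congrArg ULift.down (hm' j.2.1 j.2.2)
    refine congrArg ULift.up (family_injective f hsurj M ⊤ m'.down m fun j => ?_)
    rw [hm]
    refine TopCat.Presheaf.section_ext ⟨_, ((Scheme.Modules.pullback (f j)).obj M).isSheaf⟩ (f j ⁻¹ᵁ ⊤) _ _
      fun z hz => ?_
    apply Omega.Stalks.stalkLin_injective_of_mono (θ U.hom F (f j) j.1.hom (Over.w j.2.1.hom)) z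
    refine Eq.trans ?_ (hσ j z).symm
    rw [← hm0 j]
    refine Eq.trans ?_ (germ_resMap F j.2.1 m'.down z).symm
    refine Eq.trans ?_ (lam_germ U.hom F (f j) j.1.hom (Over.w j.2.1.hom) z specializes_rfl ⊤ trivial m'.down).symm
    exact stalkLin_germ _ _ z hz _

/-- The associated étale sheaf exists. -/
theorem exists_isAssoc [F.IsQuasicoherent] : ∃ G : EtCoh.Ab S, EtAssoc.IsAssoc F G :=
  ⟨⟨assocPresheaf F, isSheaf_assocPresheaf F⟩, fun _ => AddEquiv.refl _, fun _ _ _ _ => rfl⟩

end Groth.Agent.Desc44.QCohDescent
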