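import Groth.Agent.Desc44.QCohDescent.Main
import Groth.Prelude.Def_Desc
import Mathlib.AlgebraicGeometry.Sites.Fpqc

/-!
# Morphisms of quasi-coherent modules descend along fpqc families
-/

set_option autoImplicit false
set_option backward.isDefEq.respectTransparency false
set_option backward.isDefEq.respectTransparency.types false

universe u

open CategoryTheory CategoryTheory.Limits AlgebraicGeometry TopologicalSpace Opposite
open Groth.Agent.PullStalk.Sky Groth.Agent.PullStalk.Exact Groth.Agent.PullStalk.Basic Groth.Agent.LFFrame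

noncomputable section

namespace Groth.Agent.Desc44.QCohDescent

variable {ι : Type u} {S : Scheme.{u}} {X : ι → Scheme.{u}} (f : ∀ i, X i ⟶ S)

/-- The properties of fpqc families used in descent. -/
theorem fpqc_facts (hf : Presieve.ofArrows X f ∈ Scheme.fpqcPrecoverage S) :
    (∀ i, Flat (f i)) ∧ (∀ y, ∃ i x, f i x = y) ∧
      ∀ V : Set S, (∀ i, IsOpen (f i ⁻¹' V)) → IsOpen V := by
  classical
  let E : PreZeroHypercover.{u} S := ⟨ι, X, f⟩
  have hq : QuasiCompactCover E := Scheme.presieve₀_mem_qcPrecoverage_iff.1 hf.1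
  have hfl : ∀ i, Flat (f i) := ((Scheme.presieve₀_mem_precoverage_iff E).1 hf.2).2
  have hsurj : ∀ y, ∃ i x, f i x = y := fun y => by
    obtain ⟨U, hU, hyU, -⟩ := exists_isAffineOpen_mem_and_subset (Opens.mem_top y)
    obtain ⟨n, a, V, -, h⟩ := QuasiCompactCover.exists_isAffineOpen_of_isCompact E hU.isCompact
    obtain ⟨k, x, -, hx⟩ := Set.mem_iUnion.1 (h.ge hyU)
    exact ⟨a k, x, hx⟩
  refine ⟨hfl, hsurj, fun V hV => isOpen_iff_forall_mem_open.2 fun y hy => ?_⟩
  obtain ⟨U, hU, hyU, -⟩ := exists_isAffineOpen_mem_and_subset (Opens.mem_top y)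
  obtain ⟨n, a, W, hW, h⟩ := QuasiCompactCover.exists_isAffineOpen_of_isCompact E hU.isCompact
  have : ∀ k : ULift.{u} (Fin n), IsAffine (W k.down).toScheme := fun k => hW k.down
  have hle : ∀ k : ULift.{u} (Fin n), Set.range ((W k.down).ι ≫ f (a k.down)) ⊆ Set.range U.ι := by
    rintro k _ ⟨z, rfl⟩
    rw [Scheme.Opens.range_ι]
    exact h.le (Set.mem_iUnion.2 ⟨k.down, z.1, z.2, rfl⟩)
  let g := fun k : ULift.{u} (Fin n) => IsOpenImmersion.lift U.ι ((W k.down).ι ≫ f (a k.down)) (hle k)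
  have hg : ∀ k, g k ≫ U.ι = (W k.down).ι ≫ f (a k.down) := fun k => IsOpenImmersion.lift_fac _ _ _
  have : ∀ k, Flat (g k) := fun k => by
    have hfl' : Flat (f (a k.down)) := hfl _
    have : Flat ((W k.down).ι ≫ f (a k.down)) := inferInstance
    exact MorphismProperty.of_postcomp @Flat (W' := @IsOpenImmersion) (g k) U.ι inferInstance (hg k ▸ this)
  let π : (∐ fun k : ULift.{u} (Fin n) => (W k.down).toScheme) ⟶ U.toScheme := Sigma.desc g
  have : IsAffine U.toScheme := hU
  have : Flat π := IsZariskiLocalAtSource.sigmaDesc fun i => inferInstance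
  have : Surjective π := ⟨fun z => by
    obtain ⟨k, x, hx, hxz⟩ := Set.mem_iUnion.1 (h.ge z.2)
    refine ⟨Sigma.ι (fun k : ULift.{u} (Fin n) => (W k.down).toScheme) ⟨k⟩ ⟨x, hx⟩, U.ι.isOpenEmbedding.injective ?_⟩
    simp only [← Scheme.Hom.comp_apply, π, Sigma.ι_desc_assoc, Category.assoc, hg]
    exact hxz⟩
  have hopen : IsOpen (U.ι ⁻¹' V) := by
    rw [← (Flat.isQuotientMap_of_surjective π).isOpen_preimage]
    refine isOpen_iff_forall_mem_open.2 fun z hz => ?_
    obtain ⟨k, x, rfl⟩ := (sigmaOpenCover (fun k : ULift.{u} (Fin n) => (W k.down).toScheme)).exists_eq z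
    refine ⟨(Sigma.ι (fun k : ULift.{u} (Fin n) => (W k.down).toScheme) k) '' ((W k.down).ι ⁻¹' (f (a k.down) ⁻¹' V)),
      ?_, (Sigma.ι (fun k : ULift.{u} (Fin n) => (W k.down).toScheme) k).isOpenEmbedding.isOpenMap _
        ((hV _).preimage (W k.down).ι.continuous), x, ?_, rfl⟩
    · rintro _ ⟨w, hw, rfl⟩
      show U.ι (π _) ∈ V
      simp only [← Scheme.Hom.comp_apply, π, Sigma.ι_desc_assoc, Category.assoc, hg]
      exact hw
    · show f (a k.down) ((W k.down).ι x) ∈ V
      have := hz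
      simp only [Set.mem_preimage] at this
      rw [← Scheme.Hom.comp_apply, ← hg k, Scheme.Hom.comp_apply]
      convert this using 2
      simp [π, ← Scheme.Hom.comp_apply]
      rfl
  exact ⟨U.ι '' (U.ι ⁻¹' V), Set.image_preimage_subset _ _, U.ι.isOpenEmbedding.isOpenMap _ hopen,
    ⟨⟨y, hyU⟩, hy, rfl⟩⟩

open Pseudofunctor in
/-- The coherence isomorphisms of the pseudofunctor of modules, inverse direction. -/
theorem mapComp'_inv (M : S.Modules) {Y Z : Scheme.{u}} (a : Y ⟶ Z) (b : Z ⟶ S) (q : Y ⟶ S) (h : a ≫ b = q) :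
    ((Desc.modPF.{u}).mapComp' b.op.toLoc a.op.toLoc q.op.toLoc (by subst h; rfl)).inv.toNatTrans.app M =
      θ b M a q h := by
  subst h
  simp [CategoryTheory.Pseudofunctor.mapComp', θ, Scheme.Modules.pullbackCongr, Desc.modPF,
    Scheme.Modules.pseudofunctor]
  exact (Category.id_comp _).trans (Category.comp_id _)

open Pseudofunctor in
/-- The coherence isomorphisms of the pseudofunctor of modules. -/
theorem mapComp'_hom (M : S.Modules) {Y Z : Scheme.{u}} (a : Y ⟶ Z) (b : Z ⟶ S) (q : Y ⟶ S) (h : a ≫ b = q) :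
    ((Desc.modPF.{u}).mapComp' b.op.toLoc a.op.toLoc q.op.toLoc (by subst h; rfl)).hom.toNatTrans.app M =
      (Scheme.Modules.pullbackCongr h).inv.app M ≫ (Scheme.Modules.pullbackComp a b).inv.app M := by
  subst h
  simp [CategoryTheory.Pseudofunctor.mapComp', Scheme.Modules.pullbackCongr, Desc.modPF,
    Scheme.Modules.pseudofunctor]
  exact (Category.id_comp _).trans (Category.comp_id _)

open Pseudofunctor in
/-- The transition morphisms of the canonical descent datum, in terms of `θ`. -/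
theorem ofObj_hom (M : S.Modules) {Y : Scheme.{u}} (q : Y ⟶ S) {i₁ i₂ : ι} (f₁ : Y ⟶ X i₁) (f₂ : Y ⟶ X i₂)
    (hf₁ : f₁ ≫ f i₁ = q) (hf₂ : f₂ ≫ f i₂ = q) :
    ∃ e : (Scheme.Modules.pullback q).obj M ⟶
        (Scheme.Modules.pullback f₂).obj ((Scheme.Modules.pullback (f i₂)).obj M),
      (DescentData.ofObj (F := Desc.modPF.{u}) (f := f) M).hom q f₁ f₂ hf₁ hf₂ = θ (f i₁) M f₁ q hf₁ ≫ e ∧
        e ≫ θ (f i₂) M f₂ q hf₂ = 𝟙 _ := by
  refine ⟨(Scheme.Modules.pullbackCongr hf₂).inv.app M ≫ (Scheme.Modules.pullbackComp f₂ (f i₂)).inv.app M, ?_, ?_⟩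
  · exact congr_arg₂ (· ≫ ·) (mapComp'_inv M f₁ (f i₁) q hf₁) (mapComp'_hom M f₂ (f i₂) q hf₂)
  · simp only [θ, Category.assoc, Iso.inv_hom_id_app_assoc, Iso.inv_hom_id_app]

end Groth.Agent.Desc44.QCohDescent
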