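import Groth.Agent.Desc44.QCohDescent.Hom

/-!
# Full faithfulness of descent for quasi-coherent modules
-/

set_option autoImplicit false
set_option backward.isDefEq.respectTransparency false
set_option backward.isDefEq.respectTransparency.types false

universe u

open CategoryTheory CategoryTheory.Limits AlgebraicGeometry TopologicalSpace Opposite
open Groth.Agent.PullStalk.Sky Groth.Agent.PullStalk.Exact Groth.Agent.PullStalk.Basic Groth.Agent.LFFrame

noncomputable section

namespace Groth.Agent.Desc44.QCohDescent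

variable {ι : Type u} {S : Scheme.{u}} {X : ι → Scheme.{u}} (f : ∀ i, X i ⟶ S)

lemma μ_natural {T Y : Scheme.{u}} (g : T ⟶ Y) {M N : Y.Modules} (φ : M ⟶ N) (t : T) {y : Y} (h : g t ⤳ y)
    (m : M.presheaf.stalk y) :
    μ g N t h (stalkLin φ y m) = stalkLin ((Scheme.Modules.pullback g).map φ) t (μ g M t h m) := by
  obtain ⟨V, hy, m, rfl⟩ := exists_germM_eq M y m
  rw [stalkLin_germ, μ_germ, μ_germ, stalkLin_germ]
  exact congrArg (germM _ _ t (h.mem_open V.isOpen hy))
    (congr(Scheme.Modules.Hom.app $((Scheme.Modules.pullbackPushforwardAdjunction g).unit.naturality φ) V m))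

/-- Sections pulled back. -/
lemma unitSec_natural {T Y : Scheme.{u}} (g : T ⟶ Y) {M N : Y.Modules} (φ : M ⟶ N) (V : Y.Opens) (m : Γ(M, V)) :
    ((Scheme.Modules.pullback g).map φ).app (g ⁻¹ᵁ V) (unitSec g M V m) = unitSec g N V (φ.app V m) :=
  (congr(Scheme.Modules.Hom.app $((Scheme.Modules.pullbackPushforwardAdjunction g).unit.naturality φ) V m)).symm

instance isIso_θ {T Y Z : Scheme.{u}} (b : Z ⟶ Y) (M : Y.Modules) (a : T ⟶ Z) (q : T ⟶ Y) (h : a ≫ b = q) :
    IsIso (θ b M a q h) := by
  unfold θ
  infer_instance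

theorem toDescentData_map_bijective (hf : Presieve.ofArrows X f ∈ Scheme.fpqcPrecoverage S)
    (M N : S.Modules) [N.IsQuasicoherent] :
    Function.Bijective ((Desc.modPF.{u}.toDescentData f).map : (M ⟶ N) → _) := by
  obtain ⟨hflat, hsurj, hopen⟩ := fpqc_facts f hf
  have := hflat
  constructor
  · intro ψ ψ' h
    refine Scheme.Modules.hom_ext _ _ fun U => ?_
    ext m
    refine family_injective f hsurj N U _ _ fun i => ?_
    rw [← unitSec_natural, ← unitSec_natural]
    exact congrArg (fun φ : (Scheme.Modules.pullback (f i)).obj M ⟶ (Scheme.Modules.pullback (f i)).obj N =>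
      φ.app (f i ⁻¹ᵁ U) (unitSec (f i) M U m)) (congrArg (fun η => Pseudofunctor.DescentData.Hom.hom η i) h)
  intro η
  let φ : ∀ i, (Scheme.Modules.pullback (f i)).obj M ⟶ (Scheme.Modules.pullback (f i)).obj N := fun i => η.hom i
  have hN : IsGenCompat N := isGenCompat_of_qcoh N
  have hagree : ∀ (U : S.Opens) (m : Γ(M, U)) i j, Agree (f i) (f j) N U
      ((φ i).app _ (unitSec (f i) M U m)) ((φ j).app _ (unitSec (f j) M U m)) := by
    intro U m i j t h₁ h₂
    let a := pullback.fst (f i) (f j)
    let b := pullback.snd (f i) (f j)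
    let q := a ≫ f i
    obtain ⟨eM, hM1, hM2⟩ := ofObj_hom f M q a b rfl pullback.condition.symm
    obtain ⟨eN, hN1, hN2⟩ := ofObj_hom f N q a b rfl pullback.condition.symm
    have comm : (Scheme.Modules.pullback a).map (φ i) ≫ (θ (f i) N a q rfl ≫ eN) =
        (θ (f i) M a q rfl ≫ eM) ≫ (Scheme.Modules.pullback b).map (φ j) := by
      rw [← hM1, ← hN1]
      exact η.comm q a b rfl pullback.condition.symm
    let K := eM ≫ (Scheme.Modules.pullback b).map (φ j) ≫ θ (f j) N b q pullback.condition.symm
    have c1 : (Scheme.Modules.pullback a).map (φ i) ≫ θ (f i) N a q rfl = θ (f i) M a q rfl ≫ K := by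
      have := congrArg (· ≫ θ (f j) N b q pullback.condition.symm) comm
      simpa only [Category.assoc, hN2, Category.comp_id, K] using this
    have c2 : θ (f j) M b q pullback.condition.symm ≫ K =
        (Scheme.Modules.pullback b).map (φ j) ≫ θ (f j) N b q pullback.condition.symm := by
      have : θ (f j) M b q pullback.condition.symm ≫ eM = 𝟙 _ := by
        rw [show eM = inv (θ (f j) M b q pullback.condition.symm) from IsIso.eq_inv_of_inv_hom_id hM2]
        exact IsIso.hom_inv_id _
      simp only [K, ← Category.assoc, this, Category.id_comp]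
    have hx₁ : a t ⤳ a t := specializes_rfl
    have hx₂ : b t ⤳ b t := specializes_rfl
    have hy : q t ⤳ q t := specializes_rfl
    have hfa : f i (a t) ⤳ q t := specializes_rfl
    have hfb : f j (b t) ⤳ q t := by
      have : f j (b t) = q t := by
        show (b ≫ f j) t = (a ≫ f i) t
        rw [pullback.condition]
      rw [this]
    let m₀ := germM M U (q t) h₁ m
    have e₁ : lam (f i) N a q rfl t hx₁ (stalkLin (φ i) (a t) (μ (f i) M (a t) hfa m₀)) =
        stalkLin K t (μ q M t hy m₀) := by
      show stalkLin (θ (f i) N a q rfl) t (μ a _ t hx₁ (stalkLin (φ i) (a t) _)) = _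
      rw [μ_natural, ← Omega.Stalks.stalkLin_comp, c1, Omega.Stalks.stalkLin_comp]
      exact congrArg (stalkLin K t) (lam_μ (f i) M a q rfl t hx₁ hfa hy m₀)
    have e₂ : lam (f j) N b q pullback.condition.symm t hx₂ (stalkLin (φ j) (b t) (μ (f j) M (b t) hfb m₀)) =
        stalkLin K t (μ q M t hy m₀) := by
      show stalkLin (θ (f j) N b q _) t (μ b _ t hx₂ (stalkLin (φ j) (b t) _)) = _
      rw [μ_natural, ← Omega.Stalks.stalkLin_comp, ← c2, Omega.Stalks.stalkLin_comp]
      exact congrArg (stalkLin K t) (lam_μ (f j) M b q pullback.condition.symm t hx₂ hfb hy m₀)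
    have h := e₁.trans e₂.symm
    rw [μ_germ, μ_germ, stalkLin_germ, stalkLin_germ, lam_germ, lam_germ] at h
    exact h
  choose g hg using fun (U : S.Opens) (m : Γ(M, U)) =>
    exists_section_family hN f hsurj hopen U (fun i => (φ i).app _ (unitSec (f i) M U m)) (hagree U m)
  let gh : ∀ U : S.Opens, Γ(M, U) →+ Γ(N, U) := fun U => AddMonoidHom.mk' (g U) fun a b => by
    refine family_injective f hsurj N U _ _ fun i => ?_
    rw [map_add, hg, hg, hg, map_add, map_add]
  let ψ : M ⟶ N := ⟨PresheafOfModules.homMk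
    { app := fun U => AddCommGrpCat.ofHom (gh U.unop)
      naturality := fun {U V} e => by
        ext m
        refine family_injective f hsurj N V.unop _ _ fun i => ?_
        show unitSec (f i) N V.unop (g V.unop (M.presheaf.map (homOfLE (leOfHom e.unop)).op m)) =
          unitSec (f i) N V.unop (N.presheaf.map (homOfLE (leOfHom e.unop)).op (g U.unop m))
        rw [hg, unitSec_res, unitSec_res, hg]
        exact NatTrans.naturality_apply (φ i).mapPresheaf _ _ }
    (fun U r m => by
      refine family_injective f hsurj N U.unop _ _ fun i => ?_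
      show unitSec (f i) N U.unop (g U.unop ((show Γ(S, U.unop) from r) • (show Γ(M, U.unop) from m))) =
        unitSec (f i) N U.unop ((show Γ(S, U.unop) from r) • g U.unop m)
      rw [hg, unitSec_smul, unitSec_smul, hg, Scheme.Modules.Hom.app_smul])⟩
  refine ⟨ψ, Pseudofunctor.DescentData.hom_ext fun i => ?_⟩
  show (Scheme.Modules.pullback (f i)).map ψ = φ i
  refine ((Scheme.Modules.pullbackPushforwardAdjunction (f i)).homEquiv M _).injective ?_
  refine Scheme.Modules.hom_ext _ _ fun U => ?_
  ext m
  show ((Scheme.Modules.pullback (f i)).map ψ).app (f i ⁻¹ᵁ U) (unitSec (f i) M U m) =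
    (φ i).app (f i ⁻¹ᵁ U) (unitSec (f i) M U m)
  rw [unitSec_natural]
  exact hg U m i

end Groth.Agent.Desc44.QCohDescent
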