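import Groth.Agent.Desc44.QCohDescent.Core
import Groth.Agent.QCoh.Qcqs
import Groth.Agent.Omega.Stalks
import Groth.Agent.QCoh.Pullback
import Groth.Agent.QCoh.Exact
import Groth.Agent.LimTop.ModModel
import Groth.Agent.PerfTri.Betti

/-!
# Quasi-coherence descends along quasi-compact flat surjective morphisms
-/

set_option autoImplicit false
set_option backward.isDefEq.respectTransparency false
set_option backward.isDefEq.respectTransparency.types false

universe u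

open CategoryTheory CategoryTheory.Limits AlgebraicGeometry TopologicalSpace Opposite
open Groth.Agent.PullStalk.Sky Groth.Agent.PullStalk.Exact Groth.Agent.PullStalk.Basic Groth.Agent.LFFrame

noncomputable section

namespace Groth.Agent.Desc44.QCohDescent

variable {X X₁ X₂ Y T : Scheme.{u}}

/-- A section of `f^* M` seen on `T`. -/
def pullTo (f : X ⟶ Y) (M : Y.Modules) (a : T ⟶ X) (g : T ⟶ Y) (hg : a ≫ f = g) (W : X.Opens)
    (s : Γ((Scheme.Modules.pullback f).obj M, W)) : Γ((Scheme.Modules.pullback g).obj M, a ⁻¹ᵁ W) :=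
  (θ f M a g hg).app (a ⁻¹ᵁ W) (unitSec a _ W s)

/-- The condition on a pair of sections to come from a common section downstairs. -/
def Agree (f₁ : X₁ ⟶ Y) (f₂ : X₂ ⟶ Y) (M : Y.Modules) (U : Y.Opens)
    (s₁ : Γ((Scheme.Modules.pullback f₁).obj M, f₁ ⁻¹ᵁ U)) (s₂ : Γ((Scheme.Modules.pullback f₂).obj M, f₂ ⁻¹ᵁ U)) :
    Prop :=
  ∀ (t : ↥(pullback f₁ f₂)) (h₁ : t ∈ pullback.fst f₁ f₂ ⁻¹ᵁ (f₁ ⁻¹ᵁ U))
    (h₂ : t ∈ pullback.snd f₁ f₂ ⁻¹ᵁ (f₂ ⁻¹ᵁ U)),
    germM _ _ t h₁ (pullTo f₁ M (pullback.fst f₁ f₂) (pullback.fst f₁ f₂ ≫ f₁) rfl (f₁ ⁻¹ᵁ U) s₁) =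
      germM _ _ t h₂
        (pullTo f₂ M (pullback.snd f₁ f₂) (pullback.fst f₁ f₂ ≫ f₁) pullback.condition.symm (f₂ ⁻¹ᵁ U) s₂)

lemma unit_injective (f : X ⟶ Y) [Flat f] [Surjective f] (M : Y.Modules) (U : Y.Opens) :
    Function.Injective (unitSec f M U) := by
  intro a b hab
  refine TopCat.Presheaf.section_ext ⟨M.presheaf, M.isSheaf⟩ U a b fun y hy => ?_
  obtain ⟨x, rfl⟩ := f.surjective y
  refine FDesc.Stalk.unitStalkHom_injective f M x (Flat.stalkMap f x) ?_
  refine (unitStalkHom_germ f M x U hy a).trans (Eq.trans ?_ (unitStalkHom_germ f M x U hy b).symm)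
  exact congrArg (germM _ _ x hy) hab

lemma family_injective {ι : Type*} {X : ι → Scheme.{u}} (f : ∀ i, X i ⟶ Y) [∀ i, Flat (f i)]
    (hsurj : ∀ y, ∃ i x, f i x = y) (M : Y.Modules) (U : Y.Opens) (a b : Γ(M, U))
    (h : ∀ i, unitSec (f i) M U a = unitSec (f i) M U b) : a = b := by
  refine TopCat.Presheaf.section_ext ⟨M.presheaf, M.isSheaf⟩ U a b fun y hy => ?_
  obtain ⟨i, x, rfl⟩ := hsurj y
  refine FDesc.Stalk.unitStalkHom_injective (f i) M x (Flat.stalkMap (f i) x) ?_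
  refine (unitStalkHom_germ (f i) M x U hy a).trans (Eq.trans ?_ (unitStalkHom_germ (f i) M x U hy b).symm)
  exact congrArg (germM _ _ x hy) (h i)

/-- Families of sections of a module compatible with specialisations descend. -/
theorem exists_section_family {ι : Type*} {X : ι → Scheme.{u}} {M : Y.Modules} (hM : IsGenCompat M)
    (f : ∀ i, X i ⟶ Y) [∀ i, Flat (f i)] (hsurj : ∀ y, ∃ i x, f i x = y)
    (hopen : ∀ V : Set Y, (∀ i, IsOpen (f i ⁻¹' V)) → IsOpen V) (U : Y.Opens)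
    (s : ∀ i, Γ((Scheme.Modules.pullback (f i)).obj M, f i ⁻¹ᵁ U))
    (hs : ∀ i j, Agree (f i) (f j) M U (s i) (s j)) : ∃ m : Γ(M, U), ∀ i, unitSec (f i) M U m = s i := by
  classical
  let F := fun i => (Scheme.Modules.pullback (f i)).obj M
  have hcond : ∀ i x (hx : x ∈ f i ⁻¹ᵁ U) j x' (hx' : x' ∈ f j ⁻¹ᵁ U) (t : ↥(pullback (f i) (f j)))
      (h₁ : pullback.fst (f i) (f j) t ⤳ x) (h₂ : pullback.snd (f i) (f j) t ⤳ x'),
      lam (f i) M (pullback.fst (f i) (f j)) (pullback.fst (f i) (f j) ≫ f i) rfl t h₁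
          (germM (F i) (f i ⁻¹ᵁ U) x hx (s i)) =
        lam (f j) M (pullback.snd (f i) (f j)) (pullback.fst (f i) (f j) ≫ f i) pullback.condition.symm t h₂
          (germM (F j) (f j ⁻¹ᵁ U) x' hx' (s j)) := fun i x hx j x' hx' t h₁ h₂ => by
    rw [lam_germ, lam_germ]
    exact hs i j t _ _
  -- the value at a point
  have hval : ∀ y : Y, y ∈ U → ∃ m : M.presheaf.stalk y, ∀ i x (hxy : f i x = y) (hx : x ∈ f i ⁻¹ᵁ U),
      μ (f i) M x (specializes_of_eq hxy) m = germM (F i) (f i ⁻¹ᵁ U) x hx (s i) := by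
    intro y hy
    obtain ⟨i, x, rfl⟩ := hsurj y
    obtain ⟨m, hm⟩ := exists_stalk hM (f i) x (germM (F i) (f i ⁻¹ᵁ U) x hy (s i))
      (fun t => hcond i x hy i x hy t)
    refine ⟨m, fun j x' hx' hx'U => eq_stalk hM (f i) (f j) x x' hx' m _ fun t h₁ h₂ => ?_⟩
    rw [hm]
    exact hcond i x hy j x' hx'U t h₁ h₂
  -- near each point the values are the germs of a section
  have hnb : ∀ y : ↥U, ∃ (V : Y.Opens) (_ : y.1 ∈ V) (_ : V ≤ U) (m : Γ(M, V)), ∀ i x (hx : x ∈ f i ⁻¹ᵁ V)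
      (hxU : x ∈ f i ⁻¹ᵁ U),
      germM (F i) (f i ⁻¹ᵁ V) x hx (unitSec (f i) M V m) = germM (F i) (f i ⁻¹ᵁ U) x hxU (s i) := by
    rintro ⟨y, hy⟩
    obtain ⟨m, hm⟩ := hval y hy
    obtain ⟨V₀, hyV₀, m₀, rfl⟩ := exists_germM_eq M y m
    let W : ∀ i, Set (X i) := fun i => {x | ∃ (hx : x ∈ f i ⁻¹ᵁ V₀) (hxU : x ∈ f i ⁻¹ᵁ U),
      germM (F i) (f i ⁻¹ᵁ V₀) x hx (unitSec (f i) M V₀ m₀) = germM (F i) (f i ⁻¹ᵁ U) x hxU (s i)}
    let V : Set Y := {y' | ∃ (hy' : y' ∈ V₀) (hyU : y' ∈ U), ∀ n : M.presheaf.stalk y',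
      (∀ i x (hxy : f i x = y') (hx : x ∈ f i ⁻¹ᵁ U),
        μ (f i) M x (specializes_of_eq hxy) n = germM (F i) (f i ⁻¹ᵁ U) x hx (s i)) →
          n = germM M V₀ y' hy' m₀}
    have hpre : ∀ i, f i ⁻¹' V = W i := by
      intro i
      ext x
      constructor
      · rintro ⟨hx, hxU, h⟩
        obtain ⟨n, hn⟩ := hval (f i x) hxU
        refine ⟨hx, hxU, ?_⟩
        have := hn i x rfl hxU
        rw [h n hn, μ_germ] at this
        exact this
      · rintro ⟨hx, hxU, h⟩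
        refine ⟨hx, hxU, fun n hn => ?_⟩
        refine FDesc.Stalk.unitStalkHom_injective (f i) M x (Flat.stalkMap (f i) x) ?_
        refine Eq.trans ?_ (h.symm.trans (unitStalkHom_germ (f i) M x V₀ hx m₀).symm)
        rw [← hn i x rfl hxU]
        obtain ⟨V', hV', n', rfl⟩ := exists_germM_eq M (f i x) n
        rw [μ_germ, unitStalkHom_germ]
        rfl
    have hWo : ∀ i, IsOpen (W i) := by
      intro i
      refine isOpen_iff_forall_mem_open.2 fun x ⟨hx, hxU, h⟩ => ?_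
      obtain ⟨O, hO, i₁, i₂, e⟩ := (F i).presheaf.germ_eq x hx hxU _ _ h
      refine ⟨O, fun x' hx' => ⟨i₁.le hx', i₂.le hx', ?_⟩, O.isOpen, hO⟩
      refine ((F i).presheaf.germ_res_apply i₁ x' hx' (unitSec (f i) M V₀ m₀)).symm.trans
        (Eq.trans ?_ ((F i).presheaf.germ_res_apply i₂ x' hx' (s i)))
      rw [e]
    have hVo : IsOpen V := hopen V fun i => (hpre i).symm ▸ hWo i
    have hyV : y ∈ V := by
      refine ⟨hyV₀, hy, fun n hn => ?_⟩
      obtain ⟨i, x, rfl⟩ := hsurj y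
      have h2 := (hn i x rfl hy).trans (hm i x rfl hy).symm
      refine FDesc.Stalk.unitStalkHom_injective (f i) M x (Flat.stalkMap (f i) x) ?_
      obtain ⟨V', hV', n', rfl⟩ := exists_germM_eq M (f i x) n
      rw [μ_germ, μ_germ] at h2
      rw [unitStalkHom_germ, unitStalkHom_germ]
      exact h2
    refine ⟨⟨V, hVo⟩, hyV, fun y' hy' => hy'.2.1,
      M.presheaf.map (homOfLE (show (⟨V, hVo⟩ : Y.Opens) ≤ V₀ from fun y' (hy' : y' ∈ V) => hy'.1)).op m₀,
      fun i x hx hxU => ?_⟩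
    obtain ⟨hx0, hxU', h⟩ := (Set.ext_iff.1 (hpre i) x).1 hx
    refine Eq.trans ?_ h
    rw [unitSec_res (f i) M (fun y' (hy' : y' ∈ V) => hy'.1) m₀]
    exact (F i).presheaf.germ_res_apply (homOfLE ((f i).preimage_mono fun y' (hy' : y' ∈ V) => hy'.1)) x hx _
  choose V hyV hVU m hm using hnb
  have hcomp : TopCat.Presheaf.IsCompatible M.presheaf V m := by
    intro a b
    refine TopCat.Presheaf.section_ext ⟨M.presheaf, M.isSheaf⟩ (V a ⊓ V b) _ _ fun y hy => ?_
    obtain ⟨i, x, rfl⟩ := hsurj y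
    refine FDesc.Stalk.unitStalkHom_injective (f i) M x (Flat.stalkMap (f i) x) ?_
    refine ((congrArg _ (M.presheaf.germ_res_apply (Opens.infLELeft _ _) (f i x) hy (m a))).trans
      (unitStalkHom_germ (f i) M x (V a) hy.1 (m a))).trans ?_
    refine Eq.trans ?_ ((congrArg _ (M.presheaf.germ_res_apply (Opens.infLERight _ _) (f i x) hy (m b))).trans
      (unitStalkHom_germ (f i) M x (V b) hy.2 (m b))).symm
    exact (hm a i x hy.1 (hVU a hy.1)).trans (hm b i x hy.2 (hVU a hy.1)).symm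
  obtain ⟨m', hm', -⟩ := TopCat.Sheaf.existsUnique_gluing' ⟨M.presheaf, M.isSheaf⟩ V U
    (fun a => homOfLE (hVU a)) (fun y hy => Opens.mem_iSup.2 ⟨⟨y, hy⟩, hyV ⟨y, hy⟩⟩) m hcomp
  refine ⟨m', fun i => TopCat.Presheaf.section_ext ⟨(F i).presheaf, (F i).isSheaf⟩ (f i ⁻¹ᵁ U) _ _ fun x hx => ?_⟩
  refine Eq.trans ?_ (hm ⟨f i x, hx⟩ i x (hyV ⟨f i x, hx⟩) hx)
  rw [← hm' ⟨f i x, hx⟩, unitSec_res (f i) M (hVU ⟨f i x, hx⟩) m']
  exact ((F i).presheaf.germ_res_apply (homOfLE ((f i).preimage_mono (hVU ⟨f i x, hx⟩))) x (hyV ⟨f i x, hx⟩) _).symm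

/-- Sections of a module compatible with specialisations descend. -/
theorem exists_section {M : Y.Modules} (hM : IsGenCompat M) (f : X ⟶ Y) [Flat f] [Surjective f]
    (hq : Topology.IsQuotientMap f) (U : Y.Opens) (s : Γ((Scheme.Modules.pullback f).obj M, f ⁻¹ᵁ U))
    (hs : Agree f f M U s s) : ∃ m : Γ(M, U), unitSec f M U m = s := by
  obtain ⟨m, hm⟩ := exists_section_family (ι := PUnit.{1}) hM (fun _ => f)
    (fun y => ⟨PUnit.unit, f.surjective y⟩) (fun V hV => hq.isOpen_preimage.1 (hV PUnit.unit)) U (fun _ => s)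
    fun _ _ => hs
  exact ⟨m, hm PUnit.unit⟩

/-- The adjoint of `θ` on direct images. -/
def dmap (f : X ⟶ Y) (M : Y.Modules) (a : T ⟶ X) (g : T ⟶ Y) (hg : a ≫ f = g) :
    (Scheme.Modules.pushforward f).obj ((Scheme.Modules.pullback f).obj M) ⟶
      (Scheme.Modules.pushforward g).obj ((Scheme.Modules.pullback g).obj M) :=
  (Scheme.Modules.pushforward f).map
      ((Scheme.Modules.pullbackPushforwardAdjunction a).homEquiv _ _ (θ f M a g hg)) ≫
    (Scheme.Modules.pushforwardComp a f).hom.app _ ≫ (Scheme.Modules.pushforwardCongr hg).hom.app _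

lemma dmap_app (f : X ⟶ Y) (M : Y.Modules) (a : T ⟶ X) (U : Y.Opens)
    (s : Γ((Scheme.Modules.pullback f).obj M, f ⁻¹ᵁ U)) :
    (dmap f M a (a ≫ f) rfl).app U s = pullTo f M a (a ≫ f) rfl (f ⁻¹ᵁ U) s := by
  simp only [dmap, Scheme.Modules.Hom.comp_app, AddCommGrpCat.comp_apply]
  have h1 : (Scheme.Modules.pushforwardCongr (rfl : a ≫ f = a ≫ f)).hom.app
      ((Scheme.Modules.pullback (a ≫ f)).obj M) = 𝟙 _ := by
    ext V m
    rw [Scheme.Modules.pushforwardCongr_hom_app_app]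
    simp
  rw [h1]
  rfl

lemma germM_dmap (f : X ⟶ Y) (M : Y.Modules) (a : T ⟶ X) (g : T ⟶ Y) (hg : a ≫ f = g) (U : Y.Opens)
    (s : Γ((Scheme.Modules.pullback f).obj M, f ⁻¹ᵁ U)) (t : T) (h : t ∈ g ⁻¹ᵁ U) (h' : t ∈ a ⁻¹ᵁ (f ⁻¹ᵁ U)) :
    germM ((Scheme.Modules.pullback g).obj M) (g ⁻¹ᵁ U) t h ((dmap f M a g hg).app U s) =
      germM _ (a ⁻¹ᵁ (f ⁻¹ᵁ U)) t h' (pullTo f M a g hg (f ⁻¹ᵁ U) s) := by
  subst hg
  exact congrArg (germM _ ((a ≫ f) ⁻¹ᵁ U) t h) (dmap_app f M a U s)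

theorem unit_comp_dmap (f : X ⟶ Y) (M : Y.Modules) (a : T ⟶ X) (g : T ⟶ Y) (hg : a ≫ f = g) :
    (Scheme.Modules.pullbackPushforwardAdjunction f).unit.app M ≫ dmap f M a g hg =
      (Scheme.Modules.pullbackPushforwardAdjunction g).unit.app M := by
  subst hg
  refine Scheme.Modules.hom_ext _ _ fun U => ?_
  ext m
  exact (dmap_app f M a U (unitSec f M U m)).trans (θ_unitSec f M a U m)

/-- Quasi-coherence descends from an affine scheme to an affine scheme. -/
theorem isQuasicoherent_of_affine [IsAffine X] [IsAffine Y] (f : X ⟶ Y) [Flat f] [Surjective f] (M : Y.Modules)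
    [((Scheme.Modules.pullback f).obj M).IsQuasicoherent] : M.IsQuasicoherent := by
  have hM : IsGenCompat M := isGenCompat_of_pullback f M
  let p₁ := pullback.fst f f
  let p₂ := pullback.snd f f
  let g := p₁ ≫ f
  let F₁ := (Scheme.Modules.pushforward f).obj ((Scheme.Modules.pullback f).obj M)
  let G := (Scheme.Modules.pushforward g).obj ((Scheme.Modules.pullback g).obj M)
  have : IsAffineHom g := isAffineHom_of_isAffine g
  have : ((Scheme.Modules.pullback g).obj M).IsQuasicoherent :=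
    @QCoh.isQuasicoherent_of_iso _ _ _ ((Scheme.Modules.pullbackComp p₁ f).app M)
      (QCoh.isQuasicoherent_pullback p₁ ((Scheme.Modules.pullback f).obj M))
  have : F₁.IsQuasicoherent := QCoh.isQuasicoherent_pushforward f _
  have : G.IsQuasicoherent := QCoh.isQuasicoherent_pushforward g _
  let d : F₁ ⟶ G := dmap f M p₁ g rfl - dmap f M p₂ g pullback.condition.symm
  have hd : (Scheme.Modules.pullbackPushforwardAdjunction f).unit.app M ≫ d = 0 := by
    rw [Preadditive.comp_sub, unit_comp_dmap, unit_comp_dmap, sub_self]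
  let v := kernel.lift d _ hd
  have : (kernel d).IsQuasicoherent := QCoh.isQuasicoherent_kernel d
  have : IsIso v := by
    rw [Scheme.Modules.Hom.isIso_iff_isIso_app]
    intro U
    rw [ConcreteCategory.isIso_iff_bijective]
    have hι : ∀ a, (kernel.ι d).app U (v.app U a) = unitSec f M U a := fun a =>
      congr(Scheme.Modules.Hom.app $(kernel.lift_ι d _ hd) U a)
    refine ⟨fun a b hab => unit_injective f M U ?_, fun n => ?_⟩
    · rw [← hι, ← hι, hab]
    · have h0 : (dmap f M p₁ g rfl).app U ((kernel.ι d).app U n) =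
          (dmap f M p₂ g pullback.condition.symm).app U ((kernel.ι d).app U n) :=
        sub_eq_zero.1 (congr(Scheme.Modules.Hom.app $(kernel.condition d) U n))
      have hs : Agree f f M U ((kernel.ι d).app U n) ((kernel.ι d).app U n) := fun t h₁ h₂ => by
        have h := congrArg (germM ((Scheme.Modules.pullback g).obj M) (g ⁻¹ᵁ U) t h₁) h0
        rwa [germM_dmap f M p₁ g rfl U _ t h₁ h₁, germM_dmap f M p₂ g pullback.condition.symm U _ t h₁ h₂] at h
      obtain ⟨m, hm⟩ := exists_section hM f (Flat.isQuotientMap_of_surjective f) U _ hs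
      exact ⟨m, QCoh.app_injective_of_mono (kernel.ι d) U ((hι m).trans hm)⟩
  exact QCoh.isQuasicoherent_of_iso (asIso v).symm

/-- Quasi-coherence descends along quasi-compact flat surjective morphisms. -/
theorem isQuasicoherent_of_pullback (f : X ⟶ Y) [Flat f] [Surjective f] [QuasiCompact f] (M : Y.Modules)
    [((Scheme.Modules.pullback f).obj M).IsQuasicoherent] : M.IsQuasicoherent := by
  have : ∀ U : Y.affineOpens, (M.restrict U.1.ι).IsQuasicoherent := by
    intro U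
    have : CompactSpace (f ⁻¹ᵁ U.1).toScheme := isCompact_iff_compactSpace.1 (f.isCompact_preimage U.2.isCompact)
    let 𝒰 := (f ⁻¹ᵁ U.1).toScheme.affineCover.finiteSubcover
    let π : (∐ 𝒰.X) ⟶ (f ⁻¹ᵁ U.1).toScheme := Sigma.desc 𝒰.f
    have : IsAffine (U.1 : Scheme.{u}) := U.2
    have : Flat π := IsZariskiLocalAtSource.sigmaDesc fun i => inferInstance
    have : Surjective π := ⟨fun x => by
      obtain ⟨i, y, hy⟩ := 𝒰.exists_eq x
      exact ⟨(Sigma.ι 𝒰.X i) y, by rw [← Scheme.Hom.comp_apply, Sigma.ι_desc, hy]⟩⟩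
    let f' := π ≫ (f ∣_ U.1)
    have : Flat (f ∣_ U.1) := IsZariskiLocalAtTarget.restrict ‹Flat f› U.1
    have : Surjective (f ∣_ U.1) := IsZariskiLocalAtTarget.restrict ‹Surjective f› U.1
    have hq : ((Scheme.Modules.pullback f').obj ((Scheme.Modules.pullback U.1.ι).obj M)).IsQuasicoherent :=
      @QCoh.isQuasicoherent_of_iso _ _ _
        ((Scheme.Modules.pullbackComp (π ≫ (f ⁻¹ᵁ U.1).ι) f).app M ≪≫
          (Scheme.Modules.pullbackCongr (show (π ≫ (f ⁻¹ᵁ U.1).ι) ≫ f = f' ≫ U.1.ι by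
            simp [f', morphismRestrict_ι])).app M ≪≫ ((Scheme.Modules.pullbackComp f' U.1.ι).app M).symm)
        (QCoh.isQuasicoherent_pullback _ _)
    have := isQuasicoherent_of_affine f' ((Scheme.Modules.pullback U.1.ι).obj M)
    exact QCoh.isQuasicoherent_of_iso ((Scheme.Modules.restrictFunctorIsoPullback U.1.ι).app M).symm
  exact QCoh.isQuasicoherent_of_isOpenCover M (fun U : Y.affineOpens => U.1)
    (TopologicalSpace.IsOpenCover.mk (iSup_affineOpens_eq_top Y))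

end Groth.Agent.Desc44.QCohDescent
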