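import Groth.Agent.Desc44.QCohDescent.Alg
import Groth.Agent.FDesc.Stalk
import Groth.Agent.AssSch.Stalk
import Groth.Agent.Omega.Lift
import Groth.Agent.LFFrame.Basic
import Mathlib.AlgebraicGeometry.Morphisms.UniversallyOpen

/-!
# Stalks of modules with quasi-coherent pullback
-/

set_option autoImplicit false
set_option backward.isDefEq.respectTransparency false
set_option backward.isDefEq.respectTransparency.types false

universe u

open CategoryTheory CategoryTheory.Limits AlgebraicGeometry TopologicalSpace Opposite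
open Groth.Agent.PullStalk.Sky Groth.Agent.PullStalk.Exact Groth.Agent.PullStalk.Basic
open scoped TensorProduct

noncomputable section

namespace Groth.Agent.Desc44.QCohDescent

variable {X Y T : Scheme.{u}}

/-- Specialisation of stalks of a module. -/
def sM (M : Y.Modules) {y y' : Y} (h : y' ⤳ y) : M.presheaf.stalk y →+ M.presheaf.stalk y' :=
  (M.presheaf.stalkSpecializes h).hom

lemma sM_germ (M : Y.Modules) {y y' : Y} (h : y' ⤳ y) (V : Y.Opens) (hy : y ∈ V) (m : Γ(M, V)) :
    sM M h (germM M V y hy m) = germM M V y' (h.mem_open V.isOpen hy) m :=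
  TopCat.Presheaf.germ_stalkSpecializes_apply M.presheaf hy h m

lemma sM_smul (M : Y.Modules) {y y' : Y} (h : y' ⤳ y) (r : Y.presheaf.stalk y) (a : M.presheaf.stalk y) :
    sM M h (r • a) = Y.presheaf.stalkSpecializes h r • sM M h a := by
  obtain ⟨U, hy, m, rfl⟩ := exists_germM_eq M y a
  obtain ⟨V, hyV, r, rfl⟩ := Y.presheaf.exists_germ_eq (x := y) r
  have hW : y ∈ U ⊓ V := ⟨hy, hyV⟩
  have h1 : germM M U y hy m = germM M (U ⊓ V) y hW (M.presheaf.map (homOfLE (inf_le_left : U ⊓ V ≤ U)).op m) :=
    (M.presheaf.germ_res_apply (homOfLE (inf_le_left : U ⊓ V ≤ U)) y hW m).symm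
  have h2 : Y.presheaf.germ V y hyV r =
      Y.presheaf.germ (U ⊓ V) y hW (Y.presheaf.map (homOfLE (inf_le_right : U ⊓ V ≤ V)).op r) :=
    (Y.presheaf.germ_res_apply (homOfLE (inf_le_right : U ⊓ V ≤ V)) y hW r).symm
  rw [h1, h2, ← germM_smul, sM_germ, sM_germ, TopCat.Presheaf.germ_stalkSpecializes_apply, germM_smul]

/-- The map of local rings along a morphism followed by a specialisation. -/
def κ (g : T ⟶ Y) (t : T) {y : Y} (h : g t ⤳ y) : Y.presheaf.stalk y ⟶ T.presheaf.stalk t :=
  Y.presheaf.stalkSpecializes h ≫ g.stalkMap t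

lemma κ_germ (g : T ⟶ Y) (t : T) {y : Y} (h : g t ⤳ y) (V : Y.Opens) (hy : y ∈ V) (r : Γ(Y, V)) :
    κ g t h (Y.presheaf.germ V y hy r) = T.presheaf.germ (g ⁻¹ᵁ V) t (h.mem_open V.isOpen hy) (g.app V r) := by
  rw [κ, ConcreteCategory.comp_apply, TopCat.Presheaf.germ_stalkSpecializes_apply,
    Scheme.Hom.germ_stalkMap_apply]

/-- The unit on stalks followed by a specialisation. -/
def μ (g : T ⟶ Y) (M : Y.Modules) (t : T) {y : Y} (h : g t ⤳ y) :
    M.presheaf.stalk y →+ ((Scheme.Modules.pullback g).obj M).presheaf.stalk t :=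
  (unitStalkHom g M t).hom.comp (sM M h)

lemma μ_germ (g : T ⟶ Y) (M : Y.Modules) (t : T) {y : Y} (h : g t ⤳ y) (V : Y.Opens) (hy : y ∈ V) (m : Γ(M, V)) :
    μ g M t h (germM M V y hy m) = germM _ (g ⁻¹ᵁ V) t (h.mem_open V.isOpen hy) (LFFrame.unitSec g M V m) := by
  show unitStalkHom g M t (sM M h (germM M V y hy m)) = _
  rw [sM_germ, unitStalkHom_germ]
  rfl

lemma μ_smul (g : T ⟶ Y) (M : Y.Modules) (t : T) {y : Y} (h : g t ⤳ y) (r : Y.presheaf.stalk y)
    (a : M.presheaf.stalk y) : μ g M t h (r • a) = κ g t h r • μ g M t h a := by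
  show unitStalkHom g M t (sM M h (r • a)) = _
  rw [sM_smul, unitStalkHom_smul]
  rfl

/-- `M` is compatible with specialisations: stalks at generisations are the localised stalks. -/
def IsGenCompat (M : Y.Modules) : Prop :=
  ∀ ⦃y y' : Y⦄ (h : y' ⤳ y),
    letI := (Y.presheaf.stalkSpecializes h).hom.toAlgebra
    letI : Module (Y.presheaf.stalk y) (M.presheaf.stalk y') :=
      Module.compHom _ (Y.presheaf.stalkSpecializes h).hom
    haveI : IsScalarTower (Y.presheaf.stalk y) (Y.presheaf.stalk y') (M.presheaf.stalk y') :=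
      IsScalarTower.of_algebraMap_smul fun _ _ => rfl
    IsBaseChange (Y.presheaf.stalk y')
      ({ toFun := sM M h, map_add' := map_add _, map_smul' := sM_smul M h } :
        M.presheaf.stalk y →ₗ[Y.presheaf.stalk y] M.presheaf.stalk y')

/-- Quasi-coherent modules are compatible with specialisations. -/
theorem isGenCompat_of_qcoh (M : Y.Modules) [M.IsQuasicoherent] : IsGenCompat M := by
  intro y y' h
  obtain ⟨_, ⟨V, hV, rfl⟩, hy, -⟩ :=
    Y.isBasis_affineOpens.exists_subset_of_mem_open (Set.mem_univ y) isOpen_univ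
  have hy' : y' ∈ V := h.mem_open V.isOpen hy
  let := (Y.presheaf.stalkSpecializes h).hom.toAlgebra
  let : Module (Y.presheaf.stalk y) (M.presheaf.stalk y') :=
    Module.compHom _ (Y.presheaf.stalkSpecializes h).hom
  have : IsScalarTower (Y.presheaf.stalk y) (Y.presheaf.stalk y') (M.presheaf.stalk y') :=
    IsScalarTower.of_algebraMap_smul fun _ _ => rfl
  let : Algebra Γ(Y, V) (Y.presheaf.stalk y) := (Y.presheaf.germ V y hy).hom.toAlgebra
  let : Module Γ(Y, V) (M.presheaf.stalk y) := Module.compHom _ (Y.presheaf.germ V y hy).hom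
  let : Algebra Γ(Y, V) (Y.presheaf.stalk y') := (Y.presheaf.germ V y' hy').hom.toAlgebra
  let : Module Γ(Y, V) (M.presheaf.stalk y') := Module.compHom _ (Y.presheaf.germ V y' hy').hom
  have : IsScalarTower Γ(Y, V) (Y.presheaf.stalk y) (Y.presheaf.stalk y') :=
    IsScalarTower.of_algebraMap_eq fun r => (TopCat.Presheaf.germ_stalkSpecializes_apply Y.presheaf hy h r).symm
  have : IsScalarTower Γ(Y, V) (Y.presheaf.stalk y) (M.presheaf.stalk y) :=
    IsScalarTower.of_algebraMap_smul fun _ _ => rfl
  have : IsScalarTower Γ(Y, V) (Y.presheaf.stalk y') (M.presheaf.stalk y') :=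
    IsScalarTower.of_algebraMap_smul fun _ _ => rfl
  have : IsScalarTower Γ(Y, V) (Y.presheaf.stalk y) (M.presheaf.stalk y') :=
    IsScalarTower.of_algebraMap_smul fun r m => by
      show Y.presheaf.stalkSpecializes h (Y.presheaf.germ V y hy r) • m = Y.presheaf.germ V y' hy' r • m
      rw [TopCat.Presheaf.germ_stalkSpecializes_apply]
  have : IsLocalization (AssSch.Stalk.primeOf hV y hy).primeCompl (Y.presheaf.stalk y) :=
    hV.isLocalization_stalk ⟨y, hy⟩
  have : IsLocalization (AssSch.Stalk.primeOf hV y' hy').primeCompl (Y.presheaf.stalk y') :=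
    hV.isLocalization_stalk ⟨y', hy'⟩
  have := AssSch.Stalk.isLocalizedModule_germLinear M hV y hy
  have := AssSch.Stalk.isLocalizedModule_germLinear M hV y' hy'
  have b1 := IsLocalizedModule.isBaseChange (AssSch.Stalk.primeOf hV y hy).primeCompl (Y.presheaf.stalk y)
    (AssSch.Stalk.germLinear M y hy)
  have b2 := IsLocalizedModule.isBaseChange (AssSch.Stalk.primeOf hV y' hy').primeCompl (Y.presheaf.stalk y')
    (AssSch.Stalk.germLinear M y' hy')
  refine IsBaseChange.of_comp b1 ?_
  convert b2 using 1
  exact LinearMap.ext fun m => sM_germ M h V hy m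

/-- Compatibility with specialisations descends along flat surjective morphisms. -/
theorem isGenCompat_of_pullback (f : X ⟶ Y) [Flat f] [Surjective f] (M : Y.Modules)
    [((Scheme.Modules.pullback f).obj M).IsQuasicoherent] : IsGenCompat M := by
  intro y y' h
  obtain ⟨x, rfl⟩ := f.surjective y
  obtain ⟨x', hx, rfl⟩ := Flat.generalizingMap f h
  let := (Y.presheaf.stalkSpecializes h).hom.toAlgebra
  let : Module (Y.presheaf.stalk (f x)) (M.presheaf.stalk (f x')) :=
    Module.compHom _ (Y.presheaf.stalkSpecializes h).hom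
  have : IsScalarTower (Y.presheaf.stalk (f x)) (Y.presheaf.stalk (f x')) (M.presheaf.stalk (f x')) :=
    IsScalarTower.of_algebraMap_smul fun _ _ => rfl
  let := (f.stalkMap x).hom.toAlgebra
  let := moduleOver f M x
  have : IsScalarTower (Y.presheaf.stalk (f x)) (X.presheaf.stalk x)
      (((Scheme.Modules.pullback f).obj M).presheaf.stalk x) :=
    IsScalarTower.of_algebraMap_smul fun _ _ => rfl
  let := (f.stalkMap x').hom.toAlgebra
  let := moduleOver f M x'
  have : IsScalarTower (Y.presheaf.stalk (f x')) (X.presheaf.stalk x')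
      (((Scheme.Modules.pullback f).obj M).presheaf.stalk x') :=
    IsScalarTower.of_algebraMap_smul fun _ _ => rfl
  let := (X.presheaf.stalkSpecializes hx).hom.toAlgebra
  let : Module (X.presheaf.stalk x) (((Scheme.Modules.pullback f).obj M).presheaf.stalk x') :=
    Module.compHom _ (X.presheaf.stalkSpecializes hx).hom
  have : IsScalarTower (X.presheaf.stalk x) (X.presheaf.stalk x')
      (((Scheme.Modules.pullback f).obj M).presheaf.stalk x') :=
    IsScalarTower.of_algebraMap_smul fun _ _ => rfl
  let : Algebra (Y.presheaf.stalk (f x)) (X.presheaf.stalk x') :=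
    ((f.stalkMap x').hom.comp (Y.presheaf.stalkSpecializes h).hom).toAlgebra
  have : IsScalarTower (Y.presheaf.stalk (f x)) (Y.presheaf.stalk (f x')) (X.presheaf.stalk x') :=
    IsScalarTower.of_algebraMap_eq fun _ => rfl
  have hsq : ∀ r, X.presheaf.stalkSpecializes hx (f.stalkMap x r) =
      f.stalkMap x' (Y.presheaf.stalkSpecializes h r) := fun r =>
    (Scheme.Hom.stalkSpecializes_stalkMap_apply f x' x hx r).symm
  have : IsScalarTower (Y.presheaf.stalk (f x)) (X.presheaf.stalk x) (X.presheaf.stalk x') :=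
    IsScalarTower.of_algebraMap_eq fun r => (hsq r).symm
  let : Module (Y.presheaf.stalk (f x)) (((Scheme.Modules.pullback f).obj M).presheaf.stalk x') :=
    Module.compHom _ ((f.stalkMap x').hom.comp (Y.presheaf.stalkSpecializes h).hom)
  have : IsScalarTower (Y.presheaf.stalk (f x)) (X.presheaf.stalk x')
      (((Scheme.Modules.pullback f).obj M).presheaf.stalk x') :=
    IsScalarTower.of_algebraMap_smul fun _ _ => rfl
  have : IsScalarTower (Y.presheaf.stalk (f x)) (Y.presheaf.stalk (f x'))
      (((Scheme.Modules.pullback f).obj M).presheaf.stalk x') :=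
    IsScalarTower.of_algebraMap_smul fun _ _ => rfl
  have : IsScalarTower (Y.presheaf.stalk (f x)) (X.presheaf.stalk x)
      (((Scheme.Modules.pullback f).obj M).presheaf.stalk x') :=
    IsScalarTower.of_algebraMap_smul fun r m => congrArg (· • m) (hsq r)
  have : Module.FaithfullyFlat (Y.presheaf.stalk (f x')) (X.presheaf.stalk x') :=
    FDesc.Stalk.faithfullyFlat_stalkMap f x' (Flat.stalkMap f x')
  refine isBaseChange_descend _ (unitStalk f M x') (isBaseChange_unitStalk f M x') ?_
  have hc := (isBaseChange_unitStalk f M x).comp (isGenCompat_of_qcoh ((Scheme.Modules.pullback f).obj M) hx)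
  convert hc using 1
  refine LinearMap.ext fun a => ?_
  obtain ⟨V, hV, m, rfl⟩ := exists_germM_eq M (f x) a
  show unitStalkHom f M x' (sM M h (germM M V (f x) hV m)) =
    sM ((Scheme.Modules.pullback f).obj M) hx (unitStalkHom f M x (germM M V (f x) hV m))
  rw [sM_germ, unitStalkHom_germ, unitStalkHom_germ, sM_germ]

/-- The stalks of a pullback as base changes of stalks at specialisations. -/
theorem isBaseChange_μ {M : Y.Modules} (hM : IsGenCompat M) (g : T ⟶ Y) (t : T) {y : Y} (h : g t ⤳ y) :
    letI := (κ g t h).hom.toAlgebra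
    letI : Module (Y.presheaf.stalk y) (((Scheme.Modules.pullback g).obj M).presheaf.stalk t) :=
      Module.compHom _ (κ g t h).hom
    haveI : IsScalarTower (Y.presheaf.stalk y) (T.presheaf.stalk t)
        (((Scheme.Modules.pullback g).obj M).presheaf.stalk t) := IsScalarTower.of_algebraMap_smul fun _ _ => rfl
    IsBaseChange (T.presheaf.stalk t)
      ({ toFun := μ g M t h, map_add' := map_add _, map_smul' := μ_smul g M t h } :
        M.presheaf.stalk y →ₗ[Y.presheaf.stalk y] ((Scheme.Modules.pullback g).obj M).presheaf.stalk t) := by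
  let := (κ g t h).hom.toAlgebra
  let : Module (Y.presheaf.stalk y) (((Scheme.Modules.pullback g).obj M).presheaf.stalk t) :=
    Module.compHom _ (κ g t h).hom
  have : IsScalarTower (Y.presheaf.stalk y) (T.presheaf.stalk t)
      (((Scheme.Modules.pullback g).obj M).presheaf.stalk t) := IsScalarTower.of_algebraMap_smul fun _ _ => rfl
  let := (Y.presheaf.stalkSpecializes h).hom.toAlgebra
  let : Module (Y.presheaf.stalk y) (M.presheaf.stalk (g t)) :=
    Module.compHom _ (Y.presheaf.stalkSpecializes h).hom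
  have : IsScalarTower (Y.presheaf.stalk y) (Y.presheaf.stalk (g t)) (M.presheaf.stalk (g t)) :=
    IsScalarTower.of_algebraMap_smul fun _ _ => rfl
  let := (g.stalkMap t).hom.toAlgebra
  let := moduleOver g M t
  have : IsScalarTower (Y.presheaf.stalk (g t)) (T.presheaf.stalk t)
      (((Scheme.Modules.pullback g).obj M).presheaf.stalk t) := IsScalarTower.of_algebraMap_smul fun _ _ => rfl
  have : IsScalarTower (Y.presheaf.stalk y) (Y.presheaf.stalk (g t)) (T.presheaf.stalk t) :=
    IsScalarTower.of_algebraMap_eq fun _ => rfl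
  have : IsScalarTower (Y.presheaf.stalk y) (Y.presheaf.stalk (g t))
      (((Scheme.Modules.pullback g).obj M).presheaf.stalk t) := IsScalarTower.of_algebraMap_smul fun _ _ => rfl
  have hc := (hM h).comp (isBaseChange_unitStalk g M t)
  convert hc using 1
  exact LinearMap.ext fun _ => rfl

end Groth.Agent.Desc44.QCohDescent
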